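import Cfsg.Agent.Lib.Coprime.Action
import Cfsg.Agent.Lib.PGroup.Basic
import Cfsg.Agent.Lib.Core.Basic

/-!
# A section on which a coprime normal subgroup acts without fixed points and the `p`-core trivially
-/

set_option autoImplicit false
set_option linter.style.haveILetI false

namespace Cfsg.Lib.Local.JNormal

open Subgroup
open scoped commutatorElement

/-- The normal section `B / D`: `B ≤ H`, `D` is central in `B`, contains `[B, H]` and the `p`-th powers,
and only `D` is fixed by `T` modulo `D`. -/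
theorem exists_chief {G : Type*} [Group G] [Finite G] {p : ℕ} [Fact p.Prime] (H T : Subgroup G)
    [H.Normal] [T.Normal] (hH : IsPGroup p H) (hCH : centralizer (H : Set G) ≤ H) (hHT : H ≤ T)
    (hTH : T ≠ H) (hTc : (H.relIndex T).Coprime p) :
    ∃ B D : Subgroup G, B.Normal ∧ D.Normal ∧ B ≤ H ∧ D ≤ B ∧ D ≠ B ∧ ⁅B, H⁆ ≤ D ∧
      (∀ b ∈ B, ∀ d ∈ D, b * d = d * b) ∧ (∀ b ∈ B, b ^ p ∈ D) ∧
      (∀ x ∈ B, (∀ t ∈ T, ⁅x, t⁆ ∈ D) → x ∈ D) := by
  obtain ⟨k, hk⟩ := IsPGroup.iff_card.1 hH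
  obtain ⟨Q, hQT, hQc, hHQ⟩ := Cfsg.Lib.Coprime.exists_complement_of_coprime hHT
    (by rw [normalizer_eq_top]; exact le_top) (by rw [hk]; exact (hTc.symm).pow_left k)
  have hQp : (Nat.card Q).Coprime p := hQc ▸ hTc
  have hQH : Disjoint Q H := Cfsg.Lib.Coprime.disjoint_of_coprime_card (hk ▸ hQp.pow_right k)
  obtain ⟨B, ⟨⟨hBn, hBH, hBQ⟩, hBmin⟩⟩ := exists_minimal_of_wellFoundedLT
    (fun B : Subgroup G => B.Normal ∧ B ≤ H ∧ ¬ Q ≤ centralizer (B : Set G))
    ⟨H, inferInstance, le_rfl, fun h => hTH (by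
      rw [← hHQ, show Q = ⊥ from le_bot_iff.1 (hQH.le_bot.trans' (le_inf le_rfl (h.trans hCH))),
        sup_bot_eq])⟩
  have hQN : ∀ {N : Subgroup G} [N.Normal], Q ≤ normalizer (N : Set G) := fun {N} _ => by
    rw [normalizer_eq_top]; exact le_top
  have hlt : ∀ N : Subgroup G, N.Normal → N ≤ B → N ≠ B → Q ≤ centralizer (N : Set G) := by
    intro N hN hNB hne
    by_contra hc
    exact hne (le_antisymm hNB (hBmin ⟨hN, hNB.trans hBH, hc⟩ hNB))
  have hBp : IsPGroup p B := hH.to_le hBH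
  have hsol : Group.IsSolvable Q ∨ Group.IsSolvable B :=
    Or.inr (by have := hBp.isNilpotent; infer_instance)
  have hBne : B ≠ ⊥ := fun h => hBQ fun q _ => mem_centralizer_iff.2 fun x hx => by
    rw [h] at hx
    rw [mem_bot.1 hx, one_mul, mul_one]
  have hcopB : (Nat.card Q).Coprime (Nat.card B) := by
    obtain ⟨j, hj⟩ := IsPGroup.iff_card.1 hBp
    rw [hj]; exact hQp.pow_right j
  -- if `Q` centralises `B` modulo a centralised normal subgroup, it centralises `B`
  have hstab : ∀ N : Subgroup G, Q ≤ centralizer (N : Set G) → ⁅B, Q⁆ ≤ N → False := fun N h1 h2 =>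
    hBQ (le_centralizer_iff.1 (commutator_eq_bot_iff_le_centralizer.1
      (Cfsg.Lib.Coprime.commutator_eq_bot_of_stabilizes hQN hcopB hsol h2
        (commutator_eq_bot_iff_le_centralizer.2 (le_centralizer_iff.1 h1)))))
  set D₀ := ⁅B, H⁆ with hD₀
  have hD₀B : D₀ < B := Cfsg.Lib.PGroup.commutator_lt_of_isPGroup hBp hH
    (by rw [normalizer_eq_top]; exact le_top) hBne
  haveI : D₀.Normal := by rw [hD₀]; infer_instance
  haveI : (T.map (QuotientGroup.mk' D₀)).Normal :=
    Subgroup.Normal.map inferInstance _ (QuotientGroup.mk'_surjective _)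
  set D := B ⊓ (centralizer ((T.map (QuotientGroup.mk' D₀) : Subgroup (G ⧸ D₀)) : Set (G ⧸ D₀))).comap
    (QuotientGroup.mk' D₀) with hD
  have hcomm : ∀ x y : G, QuotientGroup.mk' D₀ y * QuotientGroup.mk' D₀ x =
      QuotientGroup.mk' D₀ x * QuotientGroup.mk' D₀ y ↔ ⁅x, y⁆ ∈ D₀ := by
    intro x y
    rw [eq_comm, ← commutatorElement_eq_one_iff_mul_comm, ← map_commutatorElement]
    exact QuotientGroup.eq_one_iff _
  have hmemD : ∀ x, x ∈ D ↔ x ∈ B ∧ ∀ t ∈ T, ⁅x, t⁆ ∈ D₀ := by
    intro x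
    rw [hD, mem_inf, mem_comap, mem_centralizer_iff]
    refine and_congr_right fun _ => ?_
    exact ⟨fun h t ht => (hcomm x t).1 (h _ ⟨t, ht, rfl⟩), by
      rintro h _ ⟨t, ht, rfl⟩; exact (hcomm x t).2 (h t ht)⟩
  haveI hDn : D.Normal := by rw [hD]; infer_instance
  have hDB : D ≤ B := inf_le_left
  have hD₀Q : Q ≤ centralizer (D₀ : Set G) := hlt D₀ inferInstance hD₀B.le hD₀B.ne
  have hDne : D ≠ B := fun h => hstab D₀ hD₀Q (commutator_le.2 fun x hx q hq =>
    ((hmemD x).1 (h.ge hx)).2 q (hQT hq))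
  have hD₀D : D₀ ≤ D := fun x hx => (hmemD x).2 ⟨hD₀B.le hx, fun t _ => by
    rw [commutatorElement_def, show x * t * x⁻¹ * t⁻¹ = x * (t * x⁻¹ * t⁻¹) by group]
    exact mul_mem hx (Subgroup.Normal.conj_mem inferInstance _ (inv_mem hx) t)⟩
  have hmaxD : ∀ N : Subgroup G, N.Normal → N ≤ B → N ≠ B → N ≤ D := by
    intro N hN hNB hne x hx
    refine (hmemD x).2 ⟨hNB hx, fun t ht => (hcomm x t).1 ?_⟩
    have htm : t ∈ (centralizer ({QuotientGroup.mk' D₀ x} : Set (G ⧸ D₀))).comap (QuotientGroup.mk' D₀) := by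
      rw [← hHQ] at ht
      refine (sup_le ?_ ?_ : H ⊔ Q ≤ _) ht
      · exact fun h hh => mem_centralizer_singleton_iff.2
          ((hcomm x h).2 (commutator_mem_commutator (hNB hx) hh))
      · refine fun q hq => mem_centralizer_singleton_iff.2 ((hcomm x q).2 ?_)
        rw [commutatorElement_eq_one_iff_mul_comm.2
          (mem_centralizer_iff.1 (hlt N hN hNB hne hq) x hx)]
        exact one_mem _
    exact mem_centralizer_singleton_iff.1 htm
  have hDQ : Q ≤ centralizer (D : Set G) := hlt D inferInstance hDB hDne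
  -- `D` is central in `B`
  have hcen : B ≤ centralizer (D : Set G) := by
    set N := B ⊓ centralizer (D : Set G) with hN
    haveI : N.Normal := by rw [hN]; infer_instance
    by_contra hne'
    have hne : N ≠ B := fun h => hne' (h ▸ inf_le_right)
    refine hstab N (hlt N inferInstance inf_le_left hne) (le_inf
      (Cfsg.Lib.Coprime.commutator_le_of_le_normalizer hQN) ?_)
    rw [← commutator_eq_bot_iff_le_centralizer]
    refine commutator_commutator_eq_bot_of_rotate ?_ ?_
    · rw [commutator_eq_bot_iff_le_centralizer.2 hDQ, commutator_bot_left]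
    · exact le_bot_iff.1 ((commutator_mono (commutator_le_left D B) le_rfl).trans
        (commutator_eq_bot_iff_le_centralizer.2 (le_centralizer_iff.1 hDQ)).le)
  refine ⟨B, D, hBn, hDn, hBH, hDB, hDne, hD₀D, fun b hb d hd =>
    (mem_centralizer_iff.1 (hcen hb) d hd).symm, fun b hb => ?_, fun x hx hxt => ?_⟩
  · set N := D ⊔ (frattini ↥B).map B.subtype with hN
    haveI : ((frattini ↥B).map B.subtype).Normal := Cfsg.Lib.Core.normal_map_char_of_normal _
    haveI : N.Normal := by rw [hN]; infer_instance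
    have hNB : N ≤ B := sup_le hDB (map_subtype_le _)
    refine hmaxD N inferInstance hNB (fun h => hDne ?_)
      (le_sup_right (a := D) ⟨⟨b, hb⟩ ^ p, Cfsg.Lib.PGroup.pow_mem_frattini hBp _, by simp⟩)
    have h2 : D.subgroupOf B ⊔ frattini ↥B = ⊤ := by
      apply map_injective B.subtype_injective
      rw [Subgroup.map_sup, map_subgroupOf_eq_of_le hDB, ← MonoidHom.range_eq_map, range_subtype, ← hN, h]
    have := Subgroup.subgroupOf_eq_top.1 (frattini_nongenerating h2)
    exact le_antisymm hDB this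
  · haveI : (T.map (QuotientGroup.mk' D)).Normal :=
      Subgroup.Normal.map inferInstance _ (QuotientGroup.mk'_surjective _)
    set N := B ⊓ (centralizer ((T.map (QuotientGroup.mk' D) : Subgroup (G ⧸ D)) : Set (G ⧸ D))).comap
      (QuotientGroup.mk' D) with hN
    haveI : N.Normal := by rw [hN]; infer_instance
    have hmemN : ∀ y, y ∈ N ↔ y ∈ B ∧ ∀ t ∈ T, ⁅y, t⁆ ∈ D := by
      intro y
      rw [hN, mem_inf, mem_comap, mem_centralizer_iff]
      refine and_congr_right fun _ => ?_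
      have hc : ∀ t, QuotientGroup.mk' D t * QuotientGroup.mk' D y =
          QuotientGroup.mk' D y * QuotientGroup.mk' D t ↔ ⁅y, t⁆ ∈ D := fun t => by
        rw [eq_comm, ← commutatorElement_eq_one_iff_mul_comm, ← map_commutatorElement]
        exact QuotientGroup.eq_one_iff _
      exact ⟨fun h t ht => (hc t).1 (h _ ⟨t, ht, rfl⟩), by
        rintro h _ ⟨t, ht, rfl⟩; exact (hc t).2 (h t ht)⟩
    refine hmaxD N inferInstance inf_le_left (fun h => hstab D hDQ ?_) ((hmemN x).2 ⟨hx, hxt⟩)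
    exact commutator_le.2 fun y hy q hq => ((hmemN y).1 (h.ge hy)).2 q (hQT hq)

end Cfsg.Lib.Local.JNormal
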