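import Cfsg.Agent.Lib.Local.JNormal.Module
import Cfsg.Agent.Lib.Local.JNormal.Chief
import Cfsg.Agent.Lib.Local.TimmesfeldReplacement
import Cfsg.Agent.Lib.Coprime.Generation

/-!
# Abelian subgroups of largest order in groups with an abelian normal `p'`-subgroup modulo `O_p`

For `p ≥ 5` such a subgroup lies in `O_p` if it acts without fixed points.
-/

set_option autoImplicit false
set_option linter.style.haveILetI false
set_option maxHeartbeats 1000000

namespace Cfsg.Lib.Local.JNormal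

open Subgroup
open scoped commutatorElement

universe u

theorem card_lt_of_lt {G : Type u} [Group G] [Finite G] {A B : Subgroup G} (h : A < B) :
    Nat.card A < Nat.card B := by
  by_contra hle
  exact h.ne (eq_of_le_of_card_ge h.le (not_lt.1 hle))

theorem mul_le_pow_mul {p : ℕ} (hp : 5 ≤ p) : ∀ n, 1 ≤ n → p * (n + 1) ≤ p ^ n * (p - 1) := by
  intro n hn
  induction n, hn using Nat.le_induction with
  | base => rw [pow_one]; exact Nat.mul_le_mul_left p (by omega)
  | succ n hn ih =>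
    calc p * (n + 1 + 1) ≤ p * (p * (n + 1)) := Nat.mul_le_mul_left p (by nlinarith)
      _ ≤ p * (p ^ n * (p - 1)) := Nat.mul_le_mul_left p ih
      _ = _ := by ring

theorem sub_one_pow_prime_pow {p : ℕ} [Fact p.Prime] {S : Type*} [Ring S] (h : (p : S) = 0) (x : S)
    (n : ℕ) : (x - 1) ^ p ^ n = x ^ p ^ n - 1 := by
  rcases subsingleton_or_nontrivial S with hS | hS
  · exact Subsingleton.elim _ _
  haveI : CharP S p := (CharP.charP_iff_prime_eq_zero (Fact.out : p.Prime)).2 h
  rw [sub_pow_char_pow_of_commute p n (Commute.one_right x), one_pow]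

theorem abelian_sup {G : Type u} [Group G] {H K : Subgroup G} (hH : IsMulCommutative H)
    (hK : IsMulCommutative K) (h : ∀ x ∈ H, ∀ y ∈ K, x * y = y * x) :
    IsMulCommutative (H ⊔ K : Subgroup G) := by
  have := hH
  have := hK
  have e : IsMulCommutative (closure ((H : Set G) ∪ (K : Set G))) := by
    refine isMulCommutative_closure ?_
    rintro a (ha | ha) b (hb | hb)
    · exact congrArg Subtype.val (mul_comm' (⟨a, ha⟩ : H) ⟨b, hb⟩)
    · exact h a ha b hb
    · exact (h b hb a ha).symm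
    · exact congrArg Subtype.val (mul_comm' (⟨a, ha⟩ : K) ⟨b, hb⟩)
  rwa [Subgroup.closure_union, Subgroup.closure_eq, Subgroup.closure_eq] at e

/-- An element of `X` outside `H` with `p`th power in `H`. -/
theorem exists_step {G : Type u} [Group G] {p : ℕ} (H X : Subgroup G) (hX : IsPGroup p X)
    (h : ¬ X ≤ H) : ∃ a ∈ X, a ∉ H ∧ a ^ p ∈ H := by
  obtain ⟨x, hx, hxH⟩ := SetLike.not_le_iff_exists.1 h
  obtain ⟨k, hk⟩ := hX ⟨x, hx⟩
  have hk' : x ^ p ^ k ∈ H := by
    rw [show x ^ p ^ k = 1 from congrArg Subtype.val hk]; exact one_mem H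
  clear hk
  induction k with
  | zero => simp at hk'; exact absurd hk' hxH
  | succ k ih =>
    by_cases hm : x ^ p ^ k ∈ H
    · exact ih hm
    · exact ⟨x ^ p ^ k, pow_mem hx _, hm, by rwa [← pow_mul, ← pow_succ]⟩

variable {G : Type u} [Group G] [Finite G] {p : ℕ} [hp : Fact p.Prime]

/-- The main theorem. -/
theorem le_of_max_abelian (hp5 : 5 ≤ p) (H T A : Subgroup G) [H.Normal] [T.Normal]
    (hH : IsPGroup p H) (hCH : centralizer (H : Set G) ≤ H) (hHT : H ≤ T) (hTH : T ≠ H)
    (hTc : (H.relIndex T).Coprime p) (hTab : ⁅T, T⁆ ≤ H)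
    (hAc : IsMulCommutative A) (hAp : IsPGroup p A)
    (hmax : ∀ B : Subgroup G, IsMulCommutative B → IsPGroup p B → Nat.card B ≤ Nat.card A)
    (hfpf : ∀ a ∈ A, a ∉ H → ∀ t ∈ T, ⁅a, t⁆ ∈ H → t ∈ H) : A ≤ H := by
  by_contra hAH
  obtain ⟨B, D, hBn, hDn, hBH, hDB, hDne, hBHD, hcen, hpow, hfixD⟩ :=
    exists_chief H T hH hCH hHT hTH hTc
  haveI := hBn
  haveI := hDn
  have hDp : IsPGroup p D := hH.to_le (hDB.trans hBH)
  haveI hDc : IsMulCommutative D := ⟨⟨fun x y => Subtype.ext (hcen x (hDB x.2) y y.2)⟩⟩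
  have hAcm : ∀ x ∈ A, ∀ y ∈ A, x * y = y * x := fun x hx y hy =>
    congrArg Subtype.val (hAc.is_comm.comm ⟨x, hx⟩ ⟨y, hy⟩)
  have hAN : ∀ {N : Subgroup G} [N.Normal], A ≤ normalizer (N : Set G) := fun {N} _ => by
    rw [normalizer_eq_top]; exact le_top
  have hcl : ∀ {X Y : Subgroup G}, IsPGroup p X → IsPGroup p Y →
      (∀ x ∈ X, ∀ y ∈ Y, x * y = y * x) → IsPGroup p (X ⊔ Y : Subgroup G) :=
    fun {X Y} hX hY h => hX.to_sup_of_normal_right' hY (fun x hx => centralizer_le_normalizer _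
      (mem_centralizer_iff.2 fun y hy => (h x hx y hy).symm))
  -- the replacement bound
  have hrep : ∀ W : Subgroup G, W ≤ D → A ≤ normalizer (W : Set G) →
      W ⊓ centralizer ((A ⊓ centralizer ((⁅W, A⁆ : Subgroup G) : Set G) : Subgroup G) : Set G) =
        ⁅W, A⁆ ⊔ (W ⊓ centralizer (A : Set G)) ∧
      Nat.card A * Nat.card (W ⊓ centralizer (A : Set G) : Subgroup G) =
        Nat.card (A ⊓ centralizer ((⁅W, A⁆ : Subgroup G) : Set G) : Subgroup G) *
          Nat.card (W ⊓ centralizer ((A ⊓ centralizer ((⁅W, A⁆ : Subgroup G) : Set G) : Subgroup G) :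
            Set G) : Subgroup G) := by
    intro W hWD hAW
    haveI : IsMulCommutative W := ⟨⟨fun x y => Subtype.ext (hcen x (hDB (hWD x.2)) y (hWD y.2))⟩⟩
    refine Cfsg.Lib.Local.Timmesfeld.replacement W A hAW ?_ ?_ le_rfl
    · rw [show ⁅A, A⁆ = ⊥ from commutator_eq_bot_iff_le_centralizer.2 fun x hx =>
        mem_centralizer_iff.2 fun y hy => hAcm y hy x hx]
      exact bot_le
    intro X hXA
    set U := W ⊓ centralizer (X : Set G) with hU
    have hXU : ∀ x ∈ X, ∀ y ∈ U, x * y = y * x := fun x hx y hy => mem_centralizer_iff.1 hy.2 x hx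
    have hc : IsMulCommutative (X ⊔ U : Subgroup G) := abelian_sup
      ⟨⟨fun x y => Subtype.ext (hAcm x (hXA x.2) y (hXA y.2))⟩⟩
      ⟨⟨fun x y => Subtype.ext (hcen x (hDB (hWD x.2.1)) y (hWD y.2.1))⟩⟩ hXU
    have hb := hmax _ hc (hcl (hAp.to_le hXA) (hDp.to_le (inf_le_left.trans hWD)) hXU)
    refine (Cfsg.Lib.Local.Timmesfeld.card_mul_card_le X U).trans ?_
    rw [mul_comm (Nat.card A)]
    refine Nat.mul_le_mul (card_le_of_le ?_) hb
    exact le_inf (inf_le_right.trans inf_le_left) (inf_le_left.trans (hXA.trans fun x hx =>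
      mem_centralizer_iff.2 fun y hy => hAcm y hy x hx))
  -- the section as a module
  letI iC : CommGroup (↥B ⧸ D.subgroupOf B) :=
    { (inferInstance : Group (↥B ⧸ D.subgroupOf B)) with
      mul_comm := by
        rintro ⟨x⟩ ⟨y⟩
        show (QuotientGroup.mk (x * y) : ↥B ⧸ D.subgroupOf B) = QuotientGroup.mk (y * x)
        rw [QuotientGroup.eq, mem_subgroupOf]
        refine hBHD ?_
        have h := commutator_mem_commutator (inv_mem y.2) (hBH (inv_mem x.2))
        simpa [commutatorElement_def, mul_assoc] using h }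
  let VB := Additive (↥B ⧸ D.subgroupOf B)
  have hVp : ∀ v : VB, p • v = 0 := by
    intro v
    obtain ⟨x, hx⟩ := QuotientGroup.mk'_surjective (D.subgroupOf B) (Additive.toMul v)
    refine Additive.toMul.injective ?_
    rw [toMul_nsmul, ← hx, ← map_pow, toMul_zero]
    exact (QuotientGroup.eq_one_iff _).2 (mem_subgroupOf.2 (hpow x x.2))
  let mkV : ↥B → VB := fun x => Additive.ofMul (QuotientGroup.mk x)
  have hmk0 : ∀ x : ↥B, mkV x = 0 ↔ (x : G) ∈ D := fun x =>
    (Additive.ofMul.injective.eq_iff' rfl).trans ((QuotientGroup.eq_one_iff x).trans mem_subgroupOf)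
  have hmksurj : ∀ v : VB, ∃ x, mkV x = v := fun v => by
    obtain ⟨x, hx⟩ := QuotientGroup.mk'_surjective (D.subgroupOf B) (Additive.toMul v)
    exact ⟨x, congrArg Additive.ofMul hx⟩
  have hcompat : ∀ g : G, D.subgroupOf B ≤
      (D.subgroupOf B).comap (MulAut.conjNormal (H := B) g).toMonoidHom := fun g x hx => by
    rw [mem_comap, mem_subgroupOf]
    show ((MulAut.conjNormal g x : ↥B) : G) ∈ D
    rw [MulAut.conjNormal_apply]
    exact Subgroup.Normal.conj_mem inferInstance _ (mem_subgroupOf.1 hx) g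
  let Φ : G →* AddMonoid.End VB :=
    { toFun := fun g => MonoidHom.toAdditive (QuotientGroup.map (D.subgroupOf B) (D.subgroupOf B)
        (MulAut.conjNormal (H := B) g).toMonoidHom (hcompat g))
      map_one' := by
        refine AddMonoidHom.ext fun v => ?_
        obtain ⟨x, rfl⟩ := hmksurj v
        show mkV (MulAut.conjNormal (1 : G) x) = mkV x
        rw [map_one]; rfl
      map_mul' := fun g g' => by
        refine AddMonoidHom.ext fun v => ?_
        obtain ⟨x, rfl⟩ := hmksurj v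
        show mkV (MulAut.conjNormal (g * g') x) = mkV (MulAut.conjNormal g (MulAut.conjNormal g' x))
        rw [map_mul]; rfl }
  have hΦ : ∀ g x, Φ g (mkV x) = mkV (MulAut.conjNormal g x) := fun _ _ => rfl
  have hmkmul : ∀ x y, mkV (x * y) = mkV x + mkV y := fun _ _ => rfl
  have hsub : ∀ g x, Φ g (mkV x) - mkV x = mkV (MulAut.conjNormal g x * x⁻¹) := fun g x =>
    (sub_eq_add_neg _ _).trans rfl
  have hHker : H ≤ Φ.ker := fun h hh => by
    refine MonoidHom.mem_ker.2 (AddMonoidHom.ext fun v => ?_)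
    obtain ⟨x, rfl⟩ := hmksurj v
    show Φ h (mkV x) = mkV x
    refine sub_eq_zero.1 ((hsub h x).trans ((hmk0 _).2 ?_))
    show (MulAut.conjNormal h x : ↥B) * (x : G)⁻¹ ∈ D
    rw [MulAut.conjNormal_apply, ← commutatorElement_def, ← commutatorElement_inv]
    exact inv_mem (hBHD (commutator_mem_commutator x.2 hh))
  have hEp : ((p : ℕ) : AddMonoid.End VB) = 0 := AddMonoidHom.ext fun v => by
    exact hVp v
  -- the abelian coprime group
  set q := QuotientGroup.mk' H with hq
  haveI hRn : (T.map q).Normal := Subgroup.Normal.map inferInstance _ (QuotientGroup.mk'_surjective _)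
  haveI hRc : IsMulCommutative (T.map q) := ⟨⟨fun x y => by
    obtain ⟨x, s, hs, rfl⟩ := x
    obtain ⟨y, t, ht, rfl⟩ := y
    refine Subtype.ext (commutatorElement_eq_one_iff_mul_comm.1 ?_)
    show ⁅q s, q t⁆ = 1
    rw [← map_commutatorElement]
    exact (QuotientGroup.eq_one_iff _).2 (hTab (commutator_mem_commutator hs ht))⟩⟩
  have hRcard : (Nat.card (T.map q)).Coprime p := by
    rw [← relIndex_ker, hq, QuotientGroup.ker_mk']; exact hTc
  have hRfix : ∀ b ∈ A.map q, b ≠ 1 → T.map q ⊓ centralizer ({b} : Set (G ⧸ H)) = ⊥ := by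
    rintro _ ⟨a, ha, rfl⟩ hb
    rw [eq_bot_iff]
    rintro _ ⟨⟨t, ht, rfl⟩, hc⟩
    refine mem_bot.2 ((QuotientGroup.eq_one_iff t).2
      (hfpf a ha (fun h => hb ((QuotientGroup.eq_one_iff a).2 h)) t ht ?_))
    refine (QuotientGroup.eq_one_iff _).1 ?_
    show q ⁅a, t⁆ = 1
    rw [map_commutatorElement, commutatorElement_eq_one_iff_mul_comm]
    exact (mem_centralizer_singleton_iff.1 hc).symm
  let Φb : G ⧸ H →* AddMonoid.End VB := QuotientGroup.lift H Φ hHker
  letI iR : CommGroup (T.map q) :=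
    { (inferInstance : Group (T.map q)) with mul_comm := fun x y => hRc.is_comm.comm x y }
  let ρ : (T.map q) →* AddMonoid.End VB := Φb.comp (T.map q).subtype
  have hρfix : ∀ v, (∀ r, ρ r v = v) → v = 0 := by
    intro v hv
    obtain ⟨x, rfl⟩ := hmksurj v
    refine (hmk0 x).2 (hfixD x x.2 fun t ht => ?_)
    have h1 : Φ t (mkV x) = mkV x := hv ⟨q t, t, ht, rfl⟩
    have h2 : (MulAut.conjNormal t x : ↥B) * (x : G)⁻¹ ∈ D :=
      (hmk0 _).1 ((hsub t x).symm.trans (sub_eq_zero.2 h1))
    rw [MulAut.conjNormal_apply, ← commutatorElement_def] at h2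
    rw [← commutatorElement_inv]
    exact inv_mem h2
  haveI : Finite VB := inferInstanceAs (Finite (Additive _))
  -- facts about an element of `A` of order `p` modulo `H`
  have hcore : ∀ a ∈ A, a ∉ H → a ^ p ∈ H →
      (Φ a - 1) ^ p = 0 ∧ (Φ a - 1) ^ (p - 1) ≠ 0 ∧
      (∀ v, Φ a v = v → ∃ w, ((Φ a - 1) ^ (p - 1)) w = v) ∧
      Nat.card VB ≤ Nat.card (AddMonoidHom.ker (Φ a - 1 : AddMonoid.End VB)) ^ p := by
    intro a ha haH hap
    have hσ : Φ a ^ p = 1 := by rw [← map_pow]; exact MonoidHom.mem_ker.1 (hHker hap)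
    let α : (T.map q) ≃* (T.map q) := MulAut.conjNormal (q a)
    have hαi : ∀ i r, (⇑α)^[i] r = MulAut.conjNormal (q a ^ i) r := by
      intro i
      induction i with
      | zero => intro r; rw [pow_zero, map_one]; rfl
      | succ i ih => intro r; rw [Function.iterate_succ_apply', ih, pow_succ', map_mul]; rfl
    have hfix1 : ∀ v, Φ a v = v → ∃ w, ((Φ a - 1) ^ (p - 1)) w = v := by
      intro v hv
      have h := fixed_mem_range hp.out hVp hRcard ρ hρfix α
        (fun r => by
          rw [hαi, ← map_pow, show q (a ^ p) = 1 from (QuotientGroup.eq_one_iff _).2 hap, map_one]; rfl)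
        (fun r hr => by
          have h1 : q a * (r : G ⧸ H) * (q a)⁻¹ = r := by
            rw [← MulAut.conjNormal_apply]; exact congrArg Subtype.val hr
          have h2 : (r : G ⧸ H) ∈ T.map q ⊓ centralizer ({q a} : Set (G ⧸ H)) :=
            ⟨r.2, mem_centralizer_singleton_iff.2 (mul_inv_eq_iff_eq_mul.1 h1).symm⟩
          rw [hRfix _ ⟨a, ha, rfl⟩ (fun e => haH ((QuotientGroup.eq_one_iff a).1 e)), mem_bot] at h2
          exact Subtype.ext h2)
        (Φ a) hσ (fun r => by
          show Φb (q a) * Φb r = Φb ((MulAut.conjNormal (q a) r : ↥(T.map q)) : G ⧸ H) * Φb (q a)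
          rw [← map_mul, ← map_mul, MulAut.conjNormal_apply, inv_mul_cancel_right]) hv
      rw [geom_eq_sub_one_pow hEp] at h
      exact h
    have hδp : (Φ a - 1) ^ p = 0 := sub_one_pow_prime hEp _ hσ
    have hcard := card_ker_pow_le (Φ a - 1) p
    rw [hδp] at hcard
    have hker0 : AddMonoidHom.ker (0 : AddMonoid.End VB) = ⊤ := by
      ext v; exact iff_of_true rfl trivial
    rw [hker0, AddSubgroup.card_top] at hcard
    refine ⟨hδp, fun h0 => hDne ?_, hfix1, hcard⟩
    have hK : AddMonoidHom.ker (Φ a - 1 : AddMonoid.End VB) = ⊥ := by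
      rw [eq_bot_iff]
      intro v hv
      obtain ⟨w, hw⟩ := hfix1 v (sub_eq_zero.1 hv)
      rw [h0] at hw
      exact hw.symm
    rw [hK, AddSubgroup.card_bot, one_pow] at hcard
    refine le_antisymm hDB fun x hx => (hmk0 ⟨x, hx⟩).1 ?_
    haveI := Finite.card_le_one_iff_subsingleton.1 hcard
    exact Subsingleton.elim _ _
  -- iterated commutators and their images
  let δ : G → ↥B → ↥B := fun a x => MulAut.conjNormal a x * x⁻¹
  have hδmk : ∀ a i x, mkV ((δ a)^[i] x) = ((Φ a - 1) ^ i : AddMonoid.End VB) (mkV x) := by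
    intro a i
    induction i with
    | zero => intro x; rfl
    | succ i ih =>
      intro x
      rw [Function.iterate_succ_apply', pow_succ']
      show _ = (Φ a - 1 : AddMonoid.End VB) (((Φ a - 1) ^ i : AddMonoid.End VB) (mkV x))
      rw [← ih]
      exact (hsub a _).symm
  have hδval : ∀ a x, ((δ a x : ↥B) : G) = ⁅a, (x : G)⁆ := fun a x => by
    show (MulAut.conjNormal a x : ↥B) * (x : G)⁻¹ = _
    rw [MulAut.conjNormal_apply, commutatorElement_def]
  -- pairing with `D`
  let M := Additive ↥D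
  letI : AddCommGroup M := @Additive.addCommGroup _
    { (inferInstance : Group ↥D) with mul_comm := fun x y => hDc.is_comm.comm x y }
  let σM : G → AddMonoid.End M := fun a => MonoidHom.toAdditive (MulAut.conjNormal (H := D) a).toMonoidHom
  have hF : ∀ x y : ↥B, ⁅(x : G), (y : G)⁆ ∈ D := fun x y =>
    hBHD (commutator_mem_commutator x.2 (hBH y.2))
  have hFd : ∀ (x : ↥B), ∀ d ∈ H, ⁅(x : G), d⁆ ∈ D := fun x d hd =>
    hBHD (commutator_mem_commutator x.2 hd)
  have hmulr : ∀ x y d : G, x ∈ B → ⁅y, d⁆ ∈ D → ⁅x * y, d⁆ = ⁅y, d⁆ * ⁅x, d⁆ := by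
    intro x y d hx hyd
    rw [show ⁅x * y, d⁆ = x * ⁅y, d⁆ * x⁻¹ * ⁅x, d⁆ by simp only [commutatorElement_def]; group,
      hcen x hx _ hyd, mul_inv_cancel_right]
  have hconjc : ∀ a d x : G, a * d = d * a → a * ⁅x, d⁆ * a⁻¹ = ⁅a * x * a⁻¹, d⁆ := by
    intro a d x h
    have e : ⁅a * x * a⁻¹, a * d * a⁻¹⁆ = a * ⁅x, d⁆ * a⁻¹ := by
      simp only [commutatorElement_def]; group
    rw [← e, h, mul_inv_cancel_right]
  -- the commutator with an element of `A ∩ H` commutes with the differences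
  have hσsub : ∀ a z (hz : z ∈ D), σM a (Additive.ofMul ⟨z, hz⟩) - (Additive.ofMul ⟨z, hz⟩ : M) =
      Additive.ofMul ⟨⁅a, z⁆, by
        rw [commutatorElement_def]
        exact mul_mem (Subgroup.Normal.conj_mem inferInstance _ hz a) (inv_mem hz)⟩ := by
    intro a z hz
    rw [sub_eq_iff_eq_add]
    refine Additive.toMul.injective (Subtype.ext ?_)
    show ((MulAut.conjNormal a ⟨z, hz⟩ : ↥D) : G) = ⁅a, z⁆ * z
    rw [MulAut.conjNormal_apply, commutatorElement_def]; group
  have hσfix : ∀ a z (hz : z ∈ D), ⁅a, z⁆ * a = a * ⁅a, z⁆ →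
      σM a (σM a (Additive.ofMul ⟨z, hz⟩) - (Additive.ofMul ⟨z, hz⟩ : M)) =
        σM a (Additive.ofMul ⟨z, hz⟩) - Additive.ofMul ⟨z, hz⟩ := by
    intro a z hz h
    rw [hσsub]
    refine Additive.toMul.injective (Subtype.ext ?_)
    show ((MulAut.conjNormal a ⟨⁅a, z⁆, _⟩ : ↥D) : G) = ⁅a, z⁆
    rw [MulAut.conjNormal_apply, ← h, mul_inv_cancel_right]
  let F : ∀ d ∈ A ⊓ H, ↥B → M := fun d hd x => Additive.ofMul ⟨⁅(x : G), d⁆, hFd x d hd.2⟩
  have hFδ : ∀ a ∈ A, ∀ d, ∀ hd : d ∈ A ⊓ H, ∀ i x,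
      F d hd ((δ a)^[i] x) = ((σM a - 1) ^ i : AddMonoid.End M) (F d hd x) := by
    intro a ha d hd i
    induction i with
    | zero => intro x; rfl
    | succ i ih =>
      intro x
      rw [Function.iterate_succ_apply', pow_succ']
      show _ = (σM a - 1 : AddMonoid.End M) (((σM a - 1) ^ i : AddMonoid.End M) (F d hd x))
      rw [← ih]
      set y := (δ a)^[i] x
      show _ = σM a (F d hd y) - F d hd y
      rw [eq_sub_iff_add_eq]
      refine Additive.toMul.injective (Subtype.ext ?_)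
      show ⁅((δ a y : ↥B) : G), d⁆ * ⁅(y : G), d⁆ = ((MulAut.conjNormal a ⟨⁅(y : G), d⁆, _⟩ : ↥D) : G)
      rw [MulAut.conjNormal_apply, hconjc a d y (hAcm a ha d hd.1),
        show a * (y : G) * a⁻¹ = ((δ a y : ↥B) : G) * (y : G) by
          rw [hδval, commutatorElement_def]; group,
        hmulr _ _ _ (δ a y).2 (hFd y d hd.2)]
      exact congrArg Subtype.val (hDc.is_comm.comm ⟨_, hFd (δ a y) d hd.2⟩ ⟨_, hFd y d hd.2⟩)
  have hFzero : ∀ d (hd : d ∈ A ⊓ H) (x : ↥B), F d hd x = 0 → (x : G) * d = d * x := fun d hd x h =>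
    commutatorElement_eq_one_iff_mul_comm.1
      (congrArg Subtype.val (congrArg Additive.toMul h))
  -- an abelian subgroup of larger order
  have hbig : ∀ (E : Subgroup G), IsMulCommutative E → IsPGroup p E → Nat.card A < Nat.card E →
      False := fun E h1 h2 h3 => absurd (hmax E h1 h2) (not_le.2 h3)
  set Y := ⁅D, A⁆ with hY
  have hYD : Y ≤ D := Cfsg.Lib.Coprime.commutator_le_of_le_normalizer hAN
  set C := A ⊓ centralizer (Y : Set G) with hC
  by_cases hcase : C ≤ H
  · -- no element outside `H` acts quadratically on `D`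
    set D₁ := D ⊓ centralizer ((A ⊓ H : Subgroup G) : Set G) with hD₁
    have hAD₁ : A ≤ normalizer (D₁ : Set G) := by
      intro x hx
      refine mem_normalizer_iff_map_conj_eq.2 (eq_of_le_of_card_ge ?_
        (card_map_of_injective (MulAut.conj x).injective).ge)
      rintro _ ⟨y, hy, rfl⟩
      refine ⟨Subgroup.Normal.conj_mem inferInstance _ hy.1 x, mem_centralizer_iff.2 fun d hd => ?_⟩
      show d * (x * y * x⁻¹) = x * y * x⁻¹ * d
      have h1 : d * y = y * d := mem_centralizer_iff.1 hy.2 d hd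
      have h2 := hAcm d hd.1 x hx
      have h3 := hAcm d hd.1 x⁻¹ (inv_mem hx)
      calc d * (x * y * x⁻¹) = (d * x) * y * x⁻¹ := by group
        _ = x * (d * y) * x⁻¹ := by rw [h2]; group
        _ = x * y * (d * x⁻¹) := by rw [h1]; group
        _ = _ := by rw [h3]; group
    obtain ⟨hW, -⟩ := hrep D₁ inf_le_left hAD₁
    have hex : ¬ A ⊓ centralizer ((⁅D₁, A⁆ : Subgroup G) : Set G) ≤ H := by
      intro hle
      set Y₁ := ⁅D₁, A⁆ with hY₁
      set F₁ := D₁ ⊓ centralizer (A : Set G) with hF₁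
      have hY₁D : Y₁ ≤ D₁ := Cfsg.Lib.Coprime.commutator_le_of_le_normalizer hAD₁
      have hd : D₁ ≤ Y₁ ⊔ F₁ := by
        rw [← hW]
        exact le_inf le_rfl (le_centralizer_iff.1 ((le_inf inf_le_left hle).trans
          (le_centralizer_iff.1 inf_le_right)))
      have hY₁Y₁ : Y₁ ≤ ⁅Y₁, A⁆ := by
        rw [hY₁, commutator_le]
        intro z hz a ha
        obtain ⟨y, hy, f, hf, rfl⟩ := Cfsg.Lib.Coprime.exists_mul_of_mem_sup (N := Y₁) (A := F₁)
          (fun f hf => centralizer_le_normalizer _ (mem_centralizer_iff.2 fun y hy =>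
            (hcen f (hDB hf.1.1) y (hY₁D hy).1).symm)) (hd hz)
        have hfa : a * f⁻¹ = f⁻¹ * a := mem_centralizer_iff.1 (inv_mem hf.2) a ha
        have e : ⁅y * f, a⁆ = ⁅y, a⁆ := by
          calc ⁅y * f, a⁆ = y * f * (a * f⁻¹) * y⁻¹ * a⁻¹ := by
                simp only [commutatorElement_def]; group
            _ = _ := by rw [hfa, commutatorElement_def]; group
        rw [e]
        exact commutator_mem_commutator hy ha
      have hY₁0 : Y₁ = ⊥ := by
        by_contra hne
        exact (Cfsg.Lib.PGroup.commutator_lt_of_isPGroup (hDp.to_le (hY₁D.trans inf_le_left)) hAp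
          (normalizer_commutator_ge_right _ _) hne).not_ge hY₁Y₁
      rw [hY₁0] at hle
      exact hAH fun x hx => hle ⟨hx, mem_centralizer_iff.2 fun y hy => by
        rw [mem_bot.1 hy, one_mul, mul_one]⟩
    obtain ⟨a, haC, haH, hap⟩ := exists_step H _ (hAp.to_le inf_le_left) hex
    obtain ⟨hδp, hne, hfix, -⟩ := hcore a haC.1 haH hap
    obtain ⟨v, hv⟩ : ∃ v, ((Φ a - 1) ^ (p - 1) : AddMonoid.End VB) v ≠ 0 := by
      by_contra h; push Not at h; exact hne (AddMonoidHom.ext h)
    obtain ⟨x, rfl⟩ := hmksurj v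
    set u := (δ a)^[p - 2] x with hu
    -- `u` commutes with `C`
    have huC : ∀ d ∈ C, (u : G) * d = d * u := by
      intro d hd
      have hdH : d ∈ A ⊓ H := ⟨hd.1, hcase hd⟩
      refine hFzero d hdH u ?_
      rw [hu, hFδ a haC.1 d hdH, show p - 2 = (p - 5) + 3 by omega, pow_add]
      show ((σM a - 1) ^ (p - 5) : AddMonoid.End M) (((σM a - 1) ^ 3 : AddMonoid.End M) (F d hdH x)) = 0
      suffices h : ((σM a - 1) ^ 3 : AddMonoid.End M) (F d hdH x) = 0 by rw [h, map_zero]
      rw [← hFδ a haC.1 d hdH 3 x]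
      -- first difference is centralised by `A ∩ H`
      set w := (δ a)^[1] x
      have hw1 : ⁅(w : G), d⁆ ∈ D₁ := by
        refine ⟨hFd w d hdH.2, mem_centralizer_iff.2 fun c hc => ?_⟩
        set e := ⁅c, (x : G)⁆ with he
        have heD : e ∈ D := by
          rw [he, ← commutatorElement_inv]; exact inv_mem (hFd x c hc.2)
        have h1 : c * (x : G) * c⁻¹ = e * x := by rw [he, commutatorElement_def]; group
        have hca : c * a = a * c := hAcm c hc.1 a haC.1
        have hcd : c * d = d * c := hAcm c hc.1 d hd.1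
        have h2 : c * (w : G) * c⁻¹ = ⁅a, e⁆ * w := by
          have hw : (w : G) = ⁅a, (x : G)⁆ := hδval a x
          have e1 : c * ⁅a, (x : G)⁆ * c⁻¹ = ⁅c * a * c⁻¹, c * x * c⁻¹⁆ := by
            simp only [commutatorElement_def]; group
          have e2 : ⁅a, e * (x : G)⁆ = ⁅a, e⁆ * (e * ⁅a, (x : G)⁆ * e⁻¹) := by
            simp only [commutatorElement_def]; group
          rw [hw, e1, h1, hca, mul_inv_cancel_right, e2]
          have hax : ⁅a, (x : G)⁆ ∈ B := hw ▸ w.2
          rw [← hcen _ hax e heD, mul_inv_cancel_right]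
        have hae : ⁅a, e⁆ ∈ Y := by
          rw [hY, commutator_comm]; exact commutator_mem_commutator haC.1 heD
        have h3 : c * ⁅(w : G), d⁆ * c⁻¹ = ⁅(w : G), d⁆ := by
          rw [hconjc c d w hcd, h2, hmulr _ _ _ (hDB (hYD hae)) (hFd w d hdH.2),
            commutatorElement_eq_one_iff_mul_comm.2 (mem_centralizer_iff.1 hd.2 _ hae), mul_one]
        exact mul_inv_eq_iff_eq_mul.1 h3
      have hw2 : ((σM a - 1) ^ 2 : AddMonoid.End M) (F d hdH w) = 0 := by
        rw [pow_two]
        show σM a (σM a (F d hdH w) - F d hdH w) - (σM a (F d hdH w) - F d hdH w) = 0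
        rw [sub_eq_zero]
        refine hσfix a _ _ (mem_centralizer_iff.1 haC.2 _ ?_)
        rw [commutator_comm]
        exact commutator_mem_commutator haC.1 hw1
      have e3 : (δ a)^[3] x = (δ a)^[2] w := rfl
      rw [e3, hFδ a haC.1 d hdH 2 w]
      exact hw2
    -- the larger group
    obtain ⟨hW', hcard⟩ := hrep D le_rfl hAN
    set FA := D ⊓ centralizer (A : Set G) with hFA
    set K := Y ⊔ FA with hK
    have hKD : K ≤ D := sup_le hYD inf_le_left
    have hCK : ∀ c ∈ C, ∀ y ∈ K, c * y = y * c := fun c hc y hy => by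
      have hy' : y ∈ D ⊓ centralizer ((C : Subgroup G) : Set G) := hW'.ge hy
      exact mem_centralizer_iff.1 hy'.2 c hc
    set E := C ⊔ K with hE
    have hEc : IsMulCommutative E := abelian_sup
      ⟨⟨fun x y => Subtype.ext (hAcm x x.2.1 y y.2.1)⟩⟩
      ⟨⟨fun x y => Subtype.ext (hcen x (hDB (hKD x.2)) y (hKD y.2))⟩⟩ hCK
    have hEcard : Nat.card A ≤ Nat.card E := by
      rw [hW'] at hcard
      have h1 := Cfsg.Lib.Local.Timmesfeld.card_mul_card_le C K
      rw [← hcard] at h1
      refine Nat.le_of_mul_le_mul_right ?_ (Nat.card_pos (α := FA))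
      refine h1.trans ?_
      rw [mul_comm (Nat.card (C ⊔ K : Subgroup G))]
      exact Nat.mul_le_mul_right _ (card_le_of_le (le_inf (inf_le_right.trans hKD)
        ((inf_le_left.trans inf_le_left).trans fun y hy => mem_centralizer_iff.2 fun z hz => hAcm z hz y hy)))
    have huE : ∀ e ∈ E, (u : G) * e = e * u := by
      intro e he
      have : E ≤ centralizer ({(u : G)} : Set G) := sup_le
        (fun d hd => mem_centralizer_singleton_iff.2 (huC d hd).symm)
        (fun y hy => mem_centralizer_singleton_iff.2 (hcen u u.2 y (hKD hy)).symm)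
      exact (mem_centralizer_singleton_iff.1 (this he)).symm
    have huN : (u : G) ∉ E := by
      intro hmem
      obtain ⟨c, hc, y, hy, hcy⟩ := Cfsg.Lib.Coprime.exists_mul_of_mem_sup
        (N := C) (A := K) (fun y hy => centralizer_le_normalizer _
          (mem_centralizer_iff.2 fun c hc => hCK c hc y hy)) hmem
      refine hv ?_
      rw [← hδmk, show p - 1 = (p - 2) + 1 by omega, Function.iterate_succ_apply', ← hu, hmk0, hδval,
        hcy]
      have e : ⁅a, c * y⁆ = c * ⁅a, y⁆ * c⁻¹ := by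
        have := hAcm a haC.1 c hc.1
        calc ⁅a, c * y⁆ = (a * c) * y * a⁻¹ * y⁻¹ * c⁻¹ := by simp only [commutatorElement_def]; group
          _ = _ := by rw [this, commutatorElement_def]; group
      rw [e]
      refine Subgroup.Normal.conj_mem inferInstance _ ?_ c
      rw [commutatorElement_def]
      exact mul_mem (Subgroup.Normal.conj_mem inferInstance _ (hKD hy) a) (inv_mem (hKD hy))
    have hu' : ∀ x ∈ E, ∀ y ∈ zpowers (u : G), x * y = y * x := by
      intro x hx y hy
      obtain ⟨i, rfl⟩ := mem_zpowers_iff.1 hy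
      exact ((show Commute (u : G) x from huE x hx).zpow_left i).eq.symm
    refine hbig (E ⊔ zpowers (u : G)) (abelian_sup hEc inferInstance hu')
      (hcl ((hcl (hAp.to_le inf_le_left) (hDp.to_le hKD) hCK)) (hH.to_le (zpowers_le.2 (hBH u.2))) hu') ?_
    exact hEcard.trans_lt (card_lt_of_lt (left_lt_sup.2 fun h => huN (h (mem_zpowers _))))
  -- some element outside `H` acts quadratically on `D`
  obtain ⟨a, haC, haH, hap⟩ := exists_step H C (hAp.to_le inf_le_left) hcase
  obtain ⟨hδp, hne, hfix, hcardV⟩ := hcore a haC.1 haH hap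
  have hquad : ∀ m : M, σM a (σM a m - m) = σM a m - m := by
    intro m
    obtain ⟨⟨z, hz⟩, rfl⟩ := Additive.ofMul.surjective m
    refine hσfix a z hz (mem_centralizer_iff.1 haC.2 _ ?_)
    rw [hY, commutator_comm]
    exact commutator_mem_commutator haC.1 hz
  have hσ2 : (σM a - 1) ^ 2 = 0 := by
    refine AddMonoidHom.ext fun m => ?_
    rw [pow_two]
    show σM a (σM a m - m) - (σM a m - m) = 0
    rw [hquad, sub_self]
  have hUA : ∀ i x, 2 ≤ i → ∀ d ∈ A ⊓ H, ((δ a)^[i] x : G) * d = d * ((δ a)^[i] x : G) := by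
    intro i x hi d hd
    refine hFzero d hd _ ?_
    rw [hFδ a haC.1 d hd, pow_eq_zero_of_le hi hσ2]
    rfl
  -- the commutator pairing
  let β : ↥B → ↥B → M := fun x y => Additive.ofMul ⟨⁅(x : G), (y : G)⁆, hF x y⟩
  have hl : ∀ x y z, β (x * y) z = β x z + β y z := fun x y z =>
    Additive.toMul.injective (Subtype.ext (by
      show ⁅(x : G) * (y : G), (z : G)⁆ = ⁅(x : G), (z : G)⁆ * ⁅(y : G), (z : G)⁆
      rw [hmulr _ _ _ x.2 (hF y z)]
      exact congrArg Subtype.val (hDc.is_comm.comm ⟨_, hF y z⟩ ⟨_, hF x z⟩)))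
  have hskew : ∀ x y, β x x = 0 ∧ β x y = - β y x := fun x y =>
    ⟨Additive.toMul.injective (Subtype.ext (commutatorElement_self _)),
      Additive.toMul.injective (Subtype.ext (commutatorElement_inv _ _).symm)⟩
  have hr : ∀ x y z, β x (y * z) = β x y + β x z := fun x y z => by
    rw [(hskew x (y * z)).2, hl, (hskew x y).2, (hskew x z).2, neg_add]
  have heq : ∀ x y, β (MulAut.conjNormal a x) (MulAut.conjNormal a y) = σM a (β x y) := fun x y =>
    Additive.toMul.injective (Subtype.ext (by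
      show ⁅((MulAut.conjNormal a x : ↥B) : G), ((MulAut.conjNormal a y : ↥B) : G)⁆ =
        ((MulAut.conjNormal a ⟨_, hF x y⟩ : ↥D) : G)
      simp only [MulAut.conjNormal_apply, commutatorElement_def]; group))
  have hDzero : ∀ x : ↥B, (x : G) ∈ D → ∀ y, β x y = 0 := fun x hx y =>
    Additive.toMul.injective (Subtype.ext
      (commutatorElement_eq_one_iff_mul_comm.2 (hcen y y.2 x hx).symm))
  have htor : ∀ n : ℕ, n.Coprime p → ∀ m : M, n • m = 0 → m = 0 := by
    intro n hn m hm
    obtain ⟨j, hj⟩ := hDp (Additive.toMul m)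
    have hj' : p ^ j • m = 0 := Additive.toMul.injective (by rw [toMul_nsmul]; exact hj)
    have h := gcd_nsmul_eq_zero.2 ⟨hm, hj'⟩
    rwa [(hn.pow_right j).gcd_eq_one, one_nsmul] at h
  have hodd : ∀ m : M, 2 • m = 0 → m = 0 :=
    htor 2 ((Nat.coprime_primes Nat.prime_two hp.out).2 (by omega))
  have h3 : ∀ m : M, 3 • m = 0 → m = 0 :=
    htor 3 ((Nat.coprime_primes Nat.prime_three hp.out).2 (by omega))
  let seq : ↥B → ℕ → ↥B := fun x i => (δ a)^[p - 5 + i] x
  have hseq : ∀ x i, seq x (i + 1) = del (MulAut.conjNormal a) (seq x i) := fun x i => by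
    show (δ a)^[p - 5 + (i + 1)] x = δ a ((δ a)^[p - 5 + i] x)
    rw [← add_assoc, Function.iterate_succ_apply']
  have hseqD : ∀ x i, 5 ≤ i → ∀ y, β (seq x i) y = 0 := fun x i hi y => hDzero _ ((hmk0 _).1 (by
    show mkV ((δ a)^[p - 5 + i] x) = 0
    rw [hδmk, pow_eq_zero_of_le (by omega : p ≤ p - 5 + i) hδp]
    rfl)) y
  -- the image of `A`
  set Ab := A.map q with hAb
  haveI : IsMulCommutative Ab := by
    haveI := hAc
    rw [hAb]; infer_instance
  have hcyc : IsCyclic Ab := by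
    by_contra hnc
    obtain ⟨k, hk⟩ := IsPGroup.iff_card.1 (hAp.map q)
    have h := Cfsg.Lib.Coprime.le_iSup_centralizer_of_not_isCyclic (A := Ab) (G := T.map q) hnc
      (by rw [normalizer_eq_top]; exact le_top) (by rw [hAb, hk]; exact hRcard.symm.pow_left k)
    have h' : T.map q = ⊥ := le_bot_iff.1 (h.trans (iSup_le fun b => (hRfix b b.2.1 b.2.2).le))
    rw [Subgroup.map_eq_bot_iff, hq, QuotientGroup.ker_mk'] at h'
    exact hTH (le_antisymm h' hHT)
  obtain ⟨gb, hgb⟩ := Subgroup.isCyclic_iff_exists_zpowers_eq_top _ |>.1 hcyc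
  obtain ⟨k, hk⟩ := IsPGroup.iff_card.1 (hAp.map q)
  have hgbcard : orderOf gb = p ^ k := by rw [← Nat.card_zpowers, hgb, hk]
  have hA0 : Nat.card (A ⊓ H : Subgroup G) * p ^ k = Nat.card A := by
    rw [← hk, ← relIndex_ker, hq, QuotientGroup.ker_mk', ← inf_relIndex_left A H,
      ← relIndex_bot_left, ← relIndex_bot_left, relIndex_mul_relIndex _ _ _ bot_le inf_le_left]
  -- the larger group
  have hfinish : ∀ U : Subgroup G, ∀ hUB : U ≤ B, IsMulCommutative U →
      (∀ x ∈ U, ∀ d ∈ A ⊓ H, d * x = x * d) →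
      ∀ (n : ℕ), n < Nat.card ↥(Set.range fun x : ↥U =>
        (Φ a - 1 : AddMonoid.End VB) (mkV ⟨x, hUB x.2⟩)) → p ^ k ≤ n → False := by
    intro U hUB hUc hUA' n hn hnk
    set A₀ := A ⊓ H
    have hA₀c : IsMulCommutative A₀ := ⟨⟨fun x y => Subtype.ext (hAcm x x.2.1 y y.2.1)⟩⟩
    refine hbig (A₀ ⊔ U) (abelian_sup hA₀c hUc fun x hx y hy => hUA' y hy x hx)
      (hcl (hAp.to_le inf_le_left) (hH.to_le (hUB.trans hBH)) fun x hx y hy => hUA' y hy x hx) ?_
    let f : ↥U →* Multiplicative VB :=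
      MonoidHom.mk' (fun x => Multiplicative.ofAdd ((Φ a - 1 : AddMonoid.End VB) (mkV ⟨x, hUB x.2⟩)))
        fun x y => by
          show Multiplicative.ofAdd ((Φ a - 1 : AddMonoid.End VB)
            (mkV (⟨x, hUB x.2⟩ * ⟨y, hUB y.2⟩))) = _
          rw [hmkmul, map_add]; rfl
    have hf : Nat.card f.range = Nat.card ↥(Set.range fun x : ↥U =>
        (Φ a - 1 : AddMonoid.End VB) (mkV ⟨x, hUB x.2⟩)) := rfl
    have hker : (A₀ ⊓ U).subgroupOf U ≤ f.ker := by
      intro x hx
      rw [MonoidHom.mem_ker]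
      show Multiplicative.ofAdd ((Φ a - 1 : AddMonoid.End VB) (mkV ⟨x, _⟩)) = 1
      show Multiplicative.ofAdd (Φ a (mkV ⟨x, _⟩) - mkV ⟨x, _⟩) = 1
      rw [hsub, (hmk0 _).2]
      · rfl
      show (MulAut.conjNormal a ⟨(x : G), _⟩ : ↥B) * (x : G)⁻¹ ∈ D
      rw [MulAut.conjNormal_apply]
      show a * (x : G) * a⁻¹ * (x : G)⁻¹ ∈ D
      rw [hAcm a haC.1 x (mem_subgroupOf.1 hx).1.1, mul_inv_cancel_right, mul_inv_cancel]
      exact one_mem D
    have h1 := f.ker.card_mul_index
    rw [index_ker] at h1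
    have h2 : Nat.card (A₀ ⊓ U : Subgroup G) ≤ Nat.card f.ker :=
      (Nat.card_congr (subgroupOfEquivOfLe inf_le_right).toEquiv).symm.le.trans (card_le_of_le hker)
    have h3 := Cfsg.Lib.Local.Timmesfeld.card_mul_card_le A₀ U
    rw [← h1] at h3
    have h4 : Nat.card A₀ * Nat.card f.range ≤ Nat.card (A₀ ⊔ U : Subgroup G) := by
      refine Nat.le_of_mul_le_mul_left ?_ (Nat.card_pos (α := (A₀ ⊓ U : Subgroup G)))
      calc Nat.card (A₀ ⊓ U : Subgroup G) * (Nat.card A₀ * Nat.card f.range)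
          ≤ Nat.card f.ker * (Nat.card A₀ * Nat.card f.range) := Nat.mul_le_mul_right _ h2
        _ = Nat.card A₀ * (Nat.card f.ker * Nat.card f.range) := by ring
        _ ≤ _ := h3
    rw [← hA0]
    refine lt_of_lt_of_le ?_ h4
    exact Nat.mul_lt_mul_of_pos_left (by rw [hf]; omega) Nat.card_pos
  have hUfix : ∀ S : Set G, (∀ s ∈ S, ∃ i x, 2 ≤ i ∧ s = ((δ a)^[i] x : ↥B)) →
      ∀ x ∈ closure S, ∀ d ∈ A ⊓ H, d * x = x * d := by
    intro S hS x hx d hd
    have : closure S ≤ centralizer ({d} : Set G) := (closure_le _).2 fun s hs => by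
      obtain ⟨i, y, hi, rfl⟩ := hS s hs
      exact mem_centralizer_singleton_iff.2 (hUA i y hi d hd)
    exact (mem_centralizer_singleton_iff.1 (this hx)).symm
  by_cases hk1 : k ≤ 1
  · -- one element moved far enough
    obtain ⟨v, hv⟩ : ∃ v, ((Φ a - 1) ^ (p - 1) : AddMonoid.End VB) v ≠ 0 := by
      by_contra h; push Not at h; exact hne (AddMonoidHom.ext h)
    obtain ⟨x, rfl⟩ := hmksurj v
    let S : Set G := {((seq x 2 : ↥B) : G), ((seq x 3 : ↥B) : G)}
    have hSB : closure S ≤ B := (closure_le _).2 (by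
      rintro _ (rfl | rfl) <;> exact SetLike.coe_mem _)
    have hiso : β (seq x 2) (seq x 3) = 0 :=
      isotropic_single (σM a) β hl hr (MulAut.conjNormal a) heq hquad hskew hodd h3 (hseq x) (hseqD x)
    have hc23 : ((seq x 2 : ↥B) : G) * (seq x 3 : ↥B) = (seq x 3 : ↥B) * (seq x 2 : ↥B) :=
      commutatorElement_eq_one_iff_mul_comm.1 (congrArg Subtype.val (congrArg Additive.toMul hiso))
    refine hfinish (closure S) hSB (isMulCommutative_closure ?_) (hUfix S ?_) p ?_ ?_
    · rintro s (rfl | rfl) t (rfl | rfl)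
      exacts [rfl, hc23, hc23.symm, rfl]
    · rintro _ (rfl | rfl)
      exacts [⟨p - 5 + 2, x, by omega, rfl⟩, ⟨p - 5 + 3, x, by omega, rfl⟩]
    · set δV : AddMonoid.End VB := Φ a - 1
      have hm : ∀ i, δV (mkV (seq x i)) = (δV ^ (p - 5 + i + 1) : AddMonoid.End VB) (mkV x) := fun i => by
        show δV (mkV ((δ a)^[p - 5 + i] x)) = _
        rw [hδmk, pow_succ' δV]; rfl
      let g : ↥(closure S) →* Multiplicative VB :=
        MonoidHom.mk' (fun z => Multiplicative.ofAdd (δV (mkV ⟨z, hSB z.2⟩))) fun z w => by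
          show Multiplicative.ofAdd (δV (mkV (⟨z, hSB z.2⟩ * ⟨w, hSB w.2⟩))) = _
          rw [hmkmul, map_add]; rfl
      show p < Nat.card g.range
      set v1 : VB := (δV ^ (p - 2) : AddMonoid.End VB) (mkV x)
      have hv1 : Multiplicative.ofAdd v1 ∈ g.range := ⟨⟨_, subset_closure (Or.inl rfl)⟩, by
        show Multiplicative.ofAdd (δV (mkV (seq x 2))) = _
        rw [hm, show p - 5 + 2 + 1 = p - 2 by omega]⟩
      have hv2 : Multiplicative.ofAdd (δV v1) ∈ g.range := ⟨⟨_, subset_closure (Or.inr rfl)⟩, by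
        show Multiplicative.ofAdd (δV (mkV (seq x 3))) = _
        rw [hm, show p - 5 + 3 + 1 = (p - 2) + 1 by omega, pow_succ' δV]; rfl⟩
      have hne1 : δV v1 ≠ 0 := by
        show (δV * δV ^ (p - 2)) (mkV x) ≠ 0
        rwa [← pow_succ', show p - 2 + 1 = p - 1 by omega]
      have hne2 : δV (δV v1) = 0 := by
        show (δV * (δV * δV ^ (p - 2))) (mkV x) = 0
        rw [← pow_succ', ← pow_succ', show p - 2 + 1 + 1 = p by omega, hδp]; rfl
      by_contra hle
      push Not at hle
      -- a group of order at most `p` cannot contain both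
      have hlt : zpowers (Multiplicative.ofAdd (δV v1)) < g.range := by
        refine lt_of_le_of_ne (zpowers_le.2 hv2) fun h => ?_
        obtain ⟨j, hj⟩ := mem_zpowers_iff.1 (h.ge hv1)
        rw [← ofAdd_zsmul] at hj
        have hj' : j • δV v1 = v1 := Multiplicative.ofAdd.injective hj
        exact hne1 (by rw [← hj', map_zsmul, hne2, smul_zero])
      have h5 := card_lt_of_lt hlt
      rw [Nat.card_zpowers, orderOf_ofAdd_eq_addOrderOf, addOrderOf_eq_prime (hVp _) hne1] at h5
      omega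
    · rcases Nat.le_one_iff_eq_zero_or_eq_one.1 hk1 with rfl | rfl
      · simpa using hp.out.one_le
      · rw [pow_one]
  · -- many fixed points
    push Not at hk1
    let S : Set G := Set.range fun x : ↥B => ((seq x 3 : ↥B) : G)
    have hSB : closure S ≤ B := (closure_le _).2 (by
      rintro _ ⟨x, rfl⟩; exact SetLike.coe_mem _)
    set δV : AddMonoid.End VB := Φ a - 1 with hδV
    refine hfinish (closure S) hSB (isMulCommutative_closure ?_) (hUfix S ?_) (p ^ k) ?_ le_rfl
    · rintro _ ⟨x, rfl⟩ _ ⟨y, rfl⟩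
      exact commutatorElement_eq_one_iff_mul_comm.1 (congrArg Subtype.val (congrArg Additive.toMul
        (isotropic_pair (σM a) β hl hr (MulAut.conjNormal a) heq hquad hskew hodd h3 (hseq x) (hseq y)
          (hseqD x) (hseqD y) le_rfl le_rfl)))
    · rintro _ ⟨x, rfl⟩
      exact ⟨p - 5 + 3, x, by omega, rfl⟩
    · have hKle : Nat.card (AddMonoidHom.ker (δV : AddMonoid.End VB)) ≤ Nat.card ↥(Set.range
          fun z : ↥(closure S) => δV (mkV ⟨z, hSB z.2⟩)) := by
        refine Nat.card_le_card_of_injective (fun w => ⟨(w : VB), ?_⟩) fun w w' h =>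
          Subtype.ext (congrArg Subtype.val h :)
        obtain ⟨y, hy⟩ := hfix w (sub_eq_zero.1 w.2)
        obtain ⟨x, rfl⟩ := hmksurj y
        refine ⟨⟨_, subset_closure ⟨x, rfl⟩⟩, ?_⟩
        show δV (mkV ((δ a)^[p - 5 + 3] x)) = _
        rw [hδmk, ← hy]
        show (δV * δV ^ (p - 5 + 3)) (mkV x) = _
        rw [← pow_succ', show p - 5 + 3 + 1 = p - 1 by omega]
      refine lt_of_lt_of_le ?_ hKle
      by_contra hK
      push Not at hK
      -- the generator moves far
      set γ : AddMonoid.End VB := Φb gb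
      have hγ : γ ^ p ^ k = 1 := by rw [← map_pow, ← hgbcard, pow_orderOf_eq_one, map_one]
      obtain ⟨j, hj⟩ : ∃ j : ℕ, gb ^ j = q a :=
        (isOfFinOrder_of_finite gb).mem_powers_iff_mem_zpowers.2 (hgb.ge ⟨a, haC.1, rfl⟩)
      have hdvd : p ^ (k - 1) ∣ j := by
        have h1 : gb ^ (j * p) = 1 := by
          rw [pow_mul, hj, ← map_pow]; exact (QuotientGroup.eq_one_iff _).2 hap
        have h2 := orderOf_dvd_of_pow_eq_one h1
        rw [hgbcard, show p ^ k = p ^ (k - 1) * p by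
          rw [← pow_succ]; congr 1; omega] at h2
        exact Nat.dvd_of_mul_dvd_mul_right hp.out.pos h2
      obtain ⟨i, rfl⟩ := hdvd
      have hσγ : Φ a = (γ ^ p ^ (k - 1)) ^ i := by
        show Φb (q a) = _
        rw [← hj, map_pow, pow_mul]
      set η := γ ^ p ^ (k - 1)
      have hfac : δV = (∑ t ∈ Finset.range i, η ^ t) * (η - 1) := by
        rw [geom_sum_mul, hδV, hσγ]
      have hcomm : Commute (∑ t ∈ Finset.range i, η ^ t) (η - 1) :=
        (Commute.sum_left _ _ _ fun t _ => (((Commute.refl η).pow_left t).sub_right (Commute.one_right _)))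
      have hm : (γ - 1) ^ (p ^ (k - 1) * (p - 1)) ≠ 0 := by
        rw [pow_mul, sub_one_pow_prime_pow hEp]
        intro h0
        refine hne ?_
        show δV ^ (p - 1) = 0
        rw [hfac, hcomm.mul_pow, h0, mul_zero]
      have hnil : (γ - 1) ^ p ^ k = 0 := by rw [sub_one_pow_prime_pow hEp, hγ, sub_self]
      have h1 := pow_succ_le_card hp.out hVp _ _ _ hnil hm
      have h2 : Nat.card VB ≤ (p ^ k) ^ p := hcardV.trans (Nat.pow_le_pow_left hK p)
      rw [← pow_mul] at h2
      have h3' := (Nat.pow_le_pow_iff_right hp.out.one_lt).1 (h1.trans h2)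
      have h4 := mul_le_pow_mul hp5 (k - 1) (by omega)
      rw [show k - 1 + 1 = k by omega, mul_comm p k] at h4
      omega

end Cfsg.Lib.Local.JNormal
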