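import Cfsg.Agent.Lib.Thompson.NormalComplementAbelian
import Cfsg.Agent.Lib.Local.JNormal.Core

/-!
# The normal `p`-complement theorem with the normalizer of `J` alone, `p ≥ 5`
-/

set_option autoImplicit false
set_option linter.style.haveILetI false

namespace Cfsg.Lib.Local.JNormal

open Subgroup Cfsg
open Cfsg.Lib.Fusion
open Cfsg.Lib.ThompsonA (map_thompsonSubgroupAOf thompsonSubgroupAOf_le thompsonSubgroupAOf_ne_bot
  normalizer_le_normalizer_thompsonSubgroupAOf)
open Cfsg.Lib.Local.GlaubermanZJ (IsMaxAbIn)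
open scoped Pointwise commutatorElement

universe u v w

variable {p : ℕ}

/-- The local hypothesis. -/
def LocalJ (p : ℕ) {G : Type u} [Group G] (S : Subgroup G) : Prop :=
  HasNormalPComplement p (normalizer (thompsonSubgroupAOf S : Set G))

variable [hp : Fact p.Prime]

variable {G : Type u} [Group G]

/-- The hypothesis passes from the image to the source of an injective homomorphism. -/
theorem localJ_of_injective [Finite G] [hp : Fact p.Prime] {H : Type u} [Group H]
    [Finite H] (f : H →* G) (hf : Function.Injective f) (S : Subgroup H)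
    (h : LocalJ p (S.map f)) : LocalJ p S := by
  have hinj : Set.InjOn f S := hf.injOn
  have hmem : ∀ x : normalizer (thompsonSubgroupAOf S : Set H),
      f x ∈ normalizer (thompsonSubgroupAOf (S.map f) : Set G) := fun x => by
    rw [← map_thompsonSubgroupAOf f S hinj]
    exact le_normalizer_map f ⟨x, x.2, rfl⟩
  refine hasNormalPComplement_of_injective
    ((f.comp (normalizer (thompsonSubgroupAOf S : Set H)).subtype).codRestrict _ hmem) ?_ h
  exact fun x y hxy => Subtype.ext (hf (congrArg Subtype.val hxy))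

theorem localJ_sylow [Finite G] [hp : Fact p.Prime] (P Q : Sylow p G)
    (h : LocalJ p (P : Subgroup G)) : LocalJ p (Q : Subgroup G) := by
  obtain ⟨g, hg⟩ := MulAction.exists_smul_eq G Q P
  refine localJ_of_injective (MulAut.conj g).toMonoidHom (MulAut.conj g).injective _ ?_
  have he : (Q : Subgroup G).map (MulAut.conj g).toMonoidHom = (P : Subgroup G) := by
    rw [← hg]; rfl
  rw [he]; exact h

/-- The hypothesis passes to the quotient by a normal `p'`-subgroup. -/
theorem localJ_map_of_coprime [Finite G] [hp : Fact p.Prime] {H : Type v} [Group H]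
    (f : G →* H) (hf : Function.Surjective f) (hker : (Nat.card f.ker).Coprime p)
    {S : Subgroup G} (hS : IsPGroup p S) (h : LocalJ p S) :
    LocalJ p (S.map f) := by
  have : Finite H := Finite.of_surjective f hf
  obtain ⟨k, hk⟩ := IsPGroup.iff_card.mp hS
  have hd : Disjoint f.ker S :=
    Cfsg.Lib.Coprime.disjoint_of_coprime_card (by rw [hk]; exact hker.pow_right k)
  have hinj : Set.InjOn f S := fun x hx y hy hxy => by
    have h1 : x * y⁻¹ ∈ f.ker ⊓ S := ⟨f.mem_ker.mpr (by rw [map_mul, map_inv, hxy, mul_inv_cancel]),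
      S.mul_mem hx (S.inv_mem hy)⟩
    rw [disjoint_iff.mp hd, mem_bot, mul_inv_eq_one] at h1
    exact h1
  -- the normalizer of the image is the image of the normalizer
  have hlift : ∀ K : Subgroup G, K ≤ S → ∀ y ∈ normalizer ((K.map f : Subgroup H) : Set H),
      ∃ x ∈ normalizer (K : Set G), f x = y := by
    intro K hKS y hy
    obtain ⟨x, rfl⟩ := hf y
    have hB : K.map (MulAut.conj x).toMonoidHom ≤ f.ker ⊔ K := by
      rw [sup_comm, ← Subgroup.comap_map_eq, ← map_le_iff_le_comap]
      rintro _ ⟨_, ⟨k, hk, rfl⟩, rfl⟩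
      have := (mem_normalizer_iff.mp hy (f k)).mp ⟨k, hk, rfl⟩
      simpa using this
    obtain ⟨j, hj⟩ := IsPGroup.iff_card.mp (hS.to_le hKS)
    have hKN : K ≤ normalizer (f.ker : Set G) := by
      rw [normalizer_eq_top]; exact le_top
    have hKsol : Group.IsSolvable K := by
      have := (hS.to_le hKS).isNilpotent
      infer_instance
    obtain ⟨n, hn, hK⟩ := Cfsg.Lib.Coprime.exists_conj_of_coprime f.ker K _ hKN
      (by rw [hj]; exact (hker.pow_right j).symm) (Or.inl hKsol) hB
      (Cfsg.Lib.Coprime.card_map_conj K x)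
    refine ⟨n⁻¹ * x, mem_normalizer_iff_map_conj_eq.mpr ?_, by
      rw [map_mul, map_inv, f.mem_ker.mp hn, inv_one, one_mul]⟩
    show K.map (MulAut.conj (n⁻¹ * x)).toMonoidHom = K
    rw [← Cfsg.Lib.Coprime.map_conj_conj, hK, Cfsg.Lib.Coprime.map_conj_conj, inv_mul_cancel,
      Cfsg.Lib.Coprime.map_conj_one]
  show HasNormalPComplement p _
  rw [← map_thompsonSubgroupAOf f S hinj]
  have hmem : ∀ x : normalizer (thompsonSubgroupAOf S : Set G),
      f x ∈ normalizer (((thompsonSubgroupAOf S).map f : Subgroup H) : Set H) :=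
    fun x => le_normalizer_map f ⟨x, x.2, rfl⟩
  refine hasNormalPComplement_of_surjective
    ((f.comp (normalizer (thompsonSubgroupAOf S : Set G)).subtype).codRestrict _ hmem) ?_ h
  rintro ⟨y, hy⟩
  obtain ⟨x, hx, rfl⟩ := hlift _ (thompsonSubgroupAOf_le S) y hy
  exact ⟨⟨x, hx⟩, rfl⟩

/-- The induction hypothesis of the proof. -/
def BelowJ (p : ℕ) (G : Type u) [Group G] : Prop :=
  ∀ (H : Type u) [Group H] [Finite H], Nat.card H < Nat.card G → ∀ P : Sylow p H,
    LocalJ p (P : Subgroup H) → HasNormalPComplement p H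

variable [Finite G]

theorem complement_subgroup_of_local (hIH : BelowJ p G) {M : Subgroup G} (hM : M ≠ ⊤)
    (S : Sylow p M) (h : LocalJ p ((S : Subgroup M).map M.subtype)) :
    HasNormalPComplement p M :=
  hIH M (Cfsg.Lib.Core.lt_card_of_ne_top hM) S
    (localJ_of_injective M.subtype M.subtype_injective _ h)

/-- Step 1: the normal `p`-subgroup. -/
theorem exists_normal_step (hIH : BelowJ p G) (P : Sylow p G)
    (hP : LocalJ p (P : Subgroup G)) (hG : ¬ HasNormalPComplement p G) :
    pCore p G ≠ ⊥ ∧ ∀ K : Subgroup G, IsPGroup p K → pCore p G < K →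
      (P : Subgroup G) ≤ normalizer (K : Set G) →
        HasNormalPComplement p (normalizer (K : Set G)) := by
  have : Finite (Subgroup G) := Finite.of_injective _ SetLike.coe_injective
  set bad : Set (Subgroup G) :=
    {U | IsPGroup p U ∧ U ≠ ⊥ ∧ ¬ HasNormalPComplement p (normalizer (U : Set G))} with hbad
  set v : Subgroup G → ℕ := fun U => (Nat.card (normalizer (U : Set G))).factorization p with hv
  set key : Subgroup G → ℕ := fun U => v U * (Nat.card G + 1) + Nat.card U with hkey
  have hbne : bad.Nonempty := by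
    by_contra h
    refine hG (frobenius_local fun Q hQ hQ0 => ?_)
    by_contra hn
    exact h ⟨Q, hQ, hQ0, hn⟩
  obtain ⟨U, hU, hmax⟩ := (Set.toFinite bad).exists_maximalFor key bad hbne
  have hgood : ∀ K : Subgroup G, IsPGroup p K → K ≠ ⊥ → key U < key K →
      HasNormalPComplement p (normalizer (K : Set G)) := fun K hK hK0 hlt => by
    by_contra hn
    exact absurd (hmax (j := K) ⟨hK, hK0, hn⟩ hlt.le) (not_le.mpr hlt)
  have hvlt : ∀ K : Subgroup G, v U < v K → key U < key K := fun K h => by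
    have h1 : Nat.card U ≤ Nat.card G := card_le_card_group U
    show v U * (Nat.card G + 1) + Nat.card U < v K * (Nat.card G + 1) + Nat.card K
    have h2 : (v U + 1) * (Nat.card G + 1) ≤ v K * (Nat.card G + 1) := Nat.mul_le_mul_right _ h
    rw [add_mul, one_mul] at h2
    omega
  obtain ⟨hUp, hU0, hUn⟩ := hU
  have hNtop : normalizer (U : Set G) = ⊤ := by
    by_contra hN
    refine hUn ?_
    set N := normalizer (U : Set G) with hNdef
    obtain ⟨S⟩ : Nonempty (Sylow p N) := inferInstance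
    set S₁ := (S : Subgroup N).map N.subtype with hS₁
    have hS₁p : IsPGroup p S₁ := S.2.map _
    obtain ⟨P₀, hP₀⟩ := hS₁p.exists_le_sylow
    have hP₀h : LocalJ p (P₀ : Subgroup G) := localJ_sylow P P₀ hP
    refine complement_subgroup_of_local hIH hN S ?_
    rcases eq_or_lt_of_le hP₀ with heq | hlt
    · rw [← hS₁, heq]; exact hP₀h
    have hT := lt_inf_normalizer P₀.2 hlt
    set T := (P₀ : Subgroup G) ⊓ normalizer (S₁ : Set G) with hTdef
    have hS₁0 : S₁ ≠ ⊥ := fun h => hU0 (le_bot_iff.mp (h ▸ sylow_of_normalizer hUp S))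
    have hcardS : Nat.card S₁ = p ^ v U := by
      rw [hS₁, card_map_of_injective N.subtype_injective]
      exact S.card_eq_multiplicity
    obtain ⟨t, ht⟩ := IsPGroup.iff_card.mp (P₀.2.to_le (inf_le_left : T ≤ _))
    have hUt : v U < t := by
      have := card_lt_card_of_lt hT
      rw [hcardS, ht] at this
      exact (Nat.pow_lt_pow_iff_right hp.out.one_lt).mp this
    have hbig : ∀ K : Subgroup G, IsPGroup p K → K ≠ ⊥ →
        normalizer (S₁ : Set G) ≤ normalizer (K : Set G) →
        HasNormalPComplement p (normalizer (K : Set G)) := by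
      intro K hK hK0 hle
      refine hgood K hK hK0 (hvlt K (lt_of_lt_of_le hUt ?_))
      have h1 := card_dvd_of_le ((inf_le_right : T ≤ _).trans hle)
      rw [ht] at h1
      exact (hp.out.pow_dvd_iff_le_factorization Nat.card_pos.ne').mp h1
    exact hbig _ (hS₁p.to_le (thompsonSubgroupAOf_le _)) (thompsonSubgroupAOf_ne_bot hS₁p hS₁0)
      (normalizer_le_normalizer_thompsonSubgroupAOf _)
  have hUH : U ≤ pCore p G :=
    Cfsg.Lib.Core.le_pCore' (normalizer_eq_top_iff.mp hNtop) hUp
  refine ⟨fun h => hU0 (le_bot_iff.mp (h ▸ hUH)), fun K hK hlt hPK => ?_⟩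
  refine hgood K hK (fun h => not_lt_bot (h ▸ hlt)) ?_
  have hvU : v U = (Nat.card G).factorization p := by
    show (Nat.card (normalizer (U : Set G))).factorization p = _
    rw [hNtop, card_top]
  have hvK : (Nat.card G).factorization p ≤ v K := by
    have h1 := card_dvd_of_le hPK
    rw [P.card_eq_multiplicity] at h1
    exact (hp.out.pow_dvd_iff_le_factorization Nat.card_pos.ne').mp h1
  show v U * (Nat.card G + 1) + Nat.card U < v K * (Nat.card G + 1) + Nat.card K
  have h2 : Nat.card U < Nat.card K := card_lt_card_of_lt (lt_of_le_of_lt hUH hlt)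
  have h3 : v U * (Nat.card G + 1) ≤ v K * (Nat.card G + 1) :=
    Nat.mul_le_mul_right _ (hvU ▸ hvK)
  omega

/-- Step 2: the quotient by the `p`-core. -/
theorem quotient_step (hIH : BelowJ p G) (P : Sylow p G) (hH : pCore p G ≠ ⊥)
    (hK : ∀ K : Subgroup G, IsPGroup p K → pCore p G < K →
      (P : Subgroup G) ≤ normalizer (K : Set G) →
        HasNormalPComplement p (normalizer (K : Set G))) :
    HasNormalPComplement p (G ⧸ pCore p G) := by
  set q := QuotientGroup.mk' (pCore p G) with hq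
  have hqs : Function.Surjective q := QuotientGroup.mk'_surjective _
  set P' := P.mapSurjective hqs with hP'
  have hPc : (P' : Subgroup (G ⧸ pCore p G)) = (P : Subgroup G).map q :=
    P.coe_mapSurjective hqs
  by_cases h1 : (P' : Subgroup (G ⧸ pCore p G)) = ⊥
  · refine hasNormalPComplement_of_coprime (Nat.Coprime.symm (hp.out.coprime_iff_not_dvd.mpr ?_))
    intro hd
    exact P'.ne_bot_of_dvd_card hd h1
  have hP'p : IsPGroup p (P' : Subgroup (G ⧸ pCore p G)) := P'.2
  have hmain : ∀ K : Subgroup (G ⧸ pCore p G), IsPGroup p K → K ≠ ⊥ →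
      normalizer ((P' : Subgroup (G ⧸ pCore p G)) : Set (G ⧸ pCore p G)) ≤
        normalizer (K : Set (G ⧸ pCore p G)) →
      HasNormalPComplement p (normalizer (K : Set (G ⧸ pCore p G))) := by
    intro K hKp hK0 hle
    have hker : q.ker = pCore p G := QuotientGroup.ker_mk' _
    have hKc : IsPGroup p (K.comap q) :=
      hKp.comap_of_ker_isPGroup q (hker.symm ▸ Cfsg.Lib.Core.pCore_isPGroup p G)
    have hlt : pCore p G < K.comap q := by
      refine lt_of_le_of_ne (hker.symm.trans_le (ker_le_comap q K)) fun h => hK0 ?_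
      rw [← map_comap_eq_self_of_surjective hqs K, ← h, Subgroup.map_eq_bot_iff, hker]
    have hPle : (P : Subgroup G) ≤ normalizer ((K.comap q : Subgroup G) : Set G) := by
      rw [← comap_normalizer_eq_of_surjective K hqs, ← map_le_iff_le_comap, ← hPc]
      exact le_normalizer.trans hle
    have h2 := hK _ hKc hlt hPle
    have hmem : ∀ x : normalizer ((K.comap q : Subgroup G) : Set G),
        q x ∈ normalizer (K : Set (G ⧸ pCore p G)) := fun x =>
      (comap_normalizer_eq_of_surjective K hqs).ge x.2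
    refine hasNormalPComplement_of_surjective
      ((q.comp (normalizer ((K.comap q : Subgroup G) : Set G)).subtype).codRestrict _ hmem) ?_ h2
    rintro ⟨y, hy⟩
    obtain ⟨x, rfl⟩ := hqs y
    refine ⟨⟨x, ?_⟩, rfl⟩
    rw [← comap_normalizer_eq_of_surjective K hqs]
    exact hy
  exact hIH _ (Cfsg.Lib.Core.card_quotient_lt hH) P'
    (hmain _ (hP'p.to_le (thompsonSubgroupAOf_le _)) (thompsonSubgroupAOf_ne_bot hP'p h1)
      (normalizer_le_normalizer_thompsonSubgroupAOf _))

/-- Step 3: no normal `p'`-subgroup. -/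
theorem pPrimeCore_step (hIH : BelowJ p G) (P : Sylow p G)
    (hP : LocalJ p (P : Subgroup G)) (hG : ¬ HasNormalPComplement p G) :
    pPrimeCore p G = ⊥ := by
  by_contra hM
  set q := QuotientGroup.mk' (pPrimeCore p G) with hq
  have hqs : Function.Surjective q := QuotientGroup.mk'_surjective _
  have hker : q.ker = pPrimeCore p G := QuotientGroup.ker_mk' _
  have hcop : (Nat.card q.ker).Coprime p := by
    rw [hker]; exact Cfsg.Lib.Core.pPrimeCore_coprime p G
  have h := hIH _ (Cfsg.Lib.Core.card_quotient_lt hM) (P.mapSurjective hqs)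
    (by rw [P.coe_mapSurjective hqs]; exact localJ_map_of_coprime q hqs hcop P.2 hP)
  rw [hasNormalPComplement_iff_coprime] at h
  refine hG (hasNormalPComplement_of_normal ((pResidual p (G ⧸ pPrimeCore p G)).comap q) ?_ ?_)
  · rw [Cfsg.Lib.Core.card_comap_eq q hqs]
    exact hcop.mul_left h
  · obtain ⟨k, hk⟩ := index_pResidual_eq_pow (p := p) (G := G ⧸ pPrimeCore p G)
    refine IsPGroup.of_card (n := k) ?_
    show ((pResidual p (G ⧸ pPrimeCore p G)).comap q).index = p ^ k
    rw [index_comap_of_surjective _ hqs, hk]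

theorem no_minimal_counterexample (hp5 : 5 ≤ p) (hIH : BelowJ p G) (P : Sylow p G)
    (hP : LocalJ p (P : Subgroup G)) (hG : ¬ HasNormalPComplement p G) : False := by
  obtain ⟨hH0, hK⟩ := exists_normal_step hIH P hP hG
  have hbarN := quotient_step hIH P hH0 hK
  have hO := pPrimeCore_step hIH P hP hG
  set H := pCore p G with hHdef
  have hHp : IsPGroup p H := Cfsg.Lib.Core.pCore_isPGroup p G
  have hHP : H ≤ (P : Subgroup G) := Cfsg.Lib.Core.pCore_le_sylow P
  have hproper : ∀ K : Subgroup G, HasNormalPComplement p K → K ≠ ⊤ := by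
    intro K h hK
    subst hK
    exact hG ((hasNormalPComplement_congr topEquiv).mp h)
  set q := QuotientGroup.mk' H with hq
  have hqs : Function.Surjective q := QuotientGroup.mk'_surjective _
  have hker : q.ker = H := QuotientGroup.ker_mk' _
  set R := pResidual p (G ⧸ H) with hR
  have hRcop : (Nat.card R).Coprime p := hasNormalPComplement_iff_coprime.mp hbarN
  -- `p`-solvable
  have hsolv : IsPSolvable p G := by
    rw [Cfsg.Lib.Core.isPSolvable_iff]
    obtain ⟨k, hk⟩ := IsPGroup.iff_card.mp hHp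
    refine Cfsg.Lib.Core.HasFactorChain.extension H (Or.inl ⟨k, hk⟩) ?_
    exact Cfsg.Lib.Core.HasFactorChain.extension R (Or.inr hRcop)
      ((Cfsg.Lib.Core.isPSolvable_iff p).mp
        (Cfsg.Lib.Core.isPSolvable_of_isPGroup isPGroup_quotient_pResidual))
  have hCH : centralizer (H : Set G) ≤ H :=
    Cfsg.Lib.Core.centralizer_pCore_le_of_isPSolvable hsolv hO
  -- proper overgroups of `P`
  have hover : ∀ M : Subgroup G, (P : Subgroup G) ≤ M → M ≠ ⊤ → M = (P : Subgroup G) := by
    intro M hPM hM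
    have hMn : HasNormalPComplement p M := by
      refine complement_subgroup_of_local hIH hM (P.subtype hPM) ?_
      rw [Sylow.coe_subtype, map_subgroupOf_eq_of_le hPM]
      exact hP
    set RM := (pResidual p M).map M.subtype with hRM
    have hMN : M ≤ normalizer (RM : Set G) := by
      intro g hg
      rw [mem_normalizer_iff_map_conj_eq]
      refine eq_of_le_of_card_ge ?_ (card_map_of_injective (MulAut.conj g).injective).ge
      rintro _ ⟨_, ⟨r, hr, rfl⟩, rfl⟩
      exact ⟨⟨g, hg⟩ * r * ⟨g, hg⟩⁻¹, (pResidual_normal p M).conj_mem r hr _, rfl⟩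
    have hRMcop : (Nat.card RM).Coprime p := by
      rw [hRM, card_map_of_injective M.subtype_injective]
      exact hasNormalPComplement_iff_coprime.mp hMn
    obtain ⟨k, hk⟩ := IsPGroup.iff_card.mp hHp
    have hRH : RM ⊓ H = ⊥ :=
      disjoint_iff.mp (Cfsg.Lib.Coprime.disjoint_of_coprime_card
        (by rw [hk]; exact hRMcop.pow_right k))
    have hcomm : ⁅RM, H⁆ = ⊥ := le_bot_iff.mp (hRH ▸ le_inf
      (Cfsg.Lib.Coprime.commutator_le_of_le_normalizer ((hHP.trans hPM).trans hMN))
      (commutator_le_right RM H))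
    rw [commutator_eq_bot_iff_le_centralizer] at hcomm
    have hRM0 : pResidual p M = ⊥ := by
      apply map_injective M.subtype_injective
      rw [Subgroup.map_bot, ← hRM]
      exact le_bot_iff.mp (hRH ▸ le_inf le_rfl (hcomm.trans hCH))
    obtain ⟨j, hj⟩ := index_pResidual_eq_pow (p := p) (G := M)
    rw [hRM0, index_bot] at hj
    exact P.3 (IsPGroup.of_card hj) hPM
  -- the residual of the quotient
  set Pb := (P : Subgroup G).map q with hPb
  have hPbp : IsPGroup p Pb := P.2.map q
  obtain ⟨kP, hkP⟩ := IsPGroup.iff_card.mp hPbp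
  have hRPb : R ⊓ Pb = ⊥ := disjoint_iff.mp (Cfsg.Lib.Coprime.disjoint_of_coprime_card
    (by rw [hkP]; exact hRcop.pow_right kP))
  have hRne : R ≠ ⊥ := by
    intro h
    obtain ⟨j, hj⟩ := index_pResidual_eq_pow (p := p) (G := G ⧸ H)
    rw [← hR, h, index_bot] at hj
    obtain ⟨i, hi⟩ := IsPGroup.iff_card.mp hHp
    exact hG (hasNormalPComplement_of_isPGroup (IsPGroup.of_card (n := i + j) (by
      rw [card_eq_card_quotient_mul_card_subgroup H, hj, hi, pow_add, mul_comm])))
  have hgen : ∀ K : Subgroup (G ⧸ H), K ≤ R → Pb ≤ normalizer (K : Set (G ⧸ H)) → K ≠ ⊥ →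
      K = R := by
    intro K hKR hPK hK0
    by_cases hM : (K ⊔ Pb).comap q = ⊤
    · refine le_antisymm hKR fun r hr => ?_
      have htop : K ⊔ Pb = ⊤ := by
        rw [← map_comap_eq_self_of_surjective hqs (K ⊔ Pb), hM, map_top_of_surjective q hqs]
      obtain ⟨k, hk, s, hs, rfl⟩ :=
        Cfsg.Lib.Coprime.exists_mul_of_mem_sup hPK (htop ▸ mem_top r : r ∈ K ⊔ Pb)
      have hsR : s ∈ R ⊓ Pb := ⟨by simpa using R.mul_mem (R.inv_mem (hKR hk)) hr, hs⟩
      rw [hRPb, mem_bot] at hsR
      rw [hsR, mul_one]; exact hk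
    · have h := hover _ (by rw [← map_le_iff_le_comap]; exact le_sup_right) hM
      refine absurd (le_bot_iff.mp (hRPb ▸ le_inf hKR ?_)) hK0
      rw [hPb, ← h, map_comap_eq_self_of_surjective hqs]
      exact le_sup_left
  have hRnorm : ∀ K : Subgroup (G ⧸ H), K ≤ normalizer (R : Set (G ⧸ H)) := fun K => by
    rw [normalizer_eq_top]; exact le_top
  have hRsol : Group.IsSolvable R := by
    have h1 : Nat.card R ≠ 1 := fun h => hRne (card_eq_one.mp h)
    obtain ⟨q₀, hq₀, hd⟩ := Nat.exists_prime_and_dvd h1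
    have : Fact q₀.Prime := ⟨hq₀⟩
    obtain ⟨Q, hQ⟩ := Cfsg.Lib.Coprime.exists_invariant_sylow (hRnorm Pb)
      (by rw [hkP]; exact (hRcop.pow_right kP).symm)
      (Or.inl (by have := hPbp.isNilpotent; infer_instance)) q₀
    have hQR := hgen _ (map_subtype_le _) hQ (by
      rw [ne_eq, Subgroup.map_eq_bot_iff_of_injective _ R.subtype_injective]
      exact Q.ne_bot_of_dvd_card hd)
    have hRq : IsPGroup q₀ R := hQR ▸ Q.2.map _
    have := hRq.isNilpotent
    infer_instance
  have : IsMulCommutative R := by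
    rw [← commutator_self_eq_bot_iff]
    by_contra hne
    have heq := hgen _ (commutator_le_self R)
      (by have : (⁅R, R⁆ : Subgroup (G ⧸ H)).Normal := inferInstance
          rw [normalizer_eq_top]; exact le_top) hne
    have : Nontrivial R := (nontrivial_iff_ne_bot R).mpr hRne
    refine (Group.IsSolvable.commutator_lt_top_of_nontrivial R).ne (map_injective R.subtype_injective ?_)
    rw [map_subtype_commutator, heq, ← MonoidHom.range_eq_map, range_subtype]
  -- a largest abelian subgroup of `P` outside `H`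
  obtain ⟨A, hA, hAH⟩ : ∃ A, IsMaxAbIn (P : Subgroup G) A ∧ ¬ A ≤ H := by
    by_contra h
    push Not at h
    obtain ⟨A₀, hA₀⟩ := Cfsg.Lib.Local.GlaubermanZJ.exists_isMaxAbIn (P : Subgroup G)
    have hJ : thompsonSubgroupAOf (P : Subgroup G) = thompsonSubgroupAOf H := by
      rw [Cfsg.Lib.Local.GlaubermanZJ.thompsonSubgroupAOf_eq,
        Cfsg.Lib.Local.GlaubermanZJ.thompsonSubgroupAOf_eq]
      refine congrArg sSup (Set.ext fun A =>
        ⟨fun hA => ⟨h A hA, hA.2.1, fun C hC hCc => hA.2.2 C (hC.trans hHP) hCc⟩, fun hA =>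
          ⟨hA.1.trans hHP, hA.2.1, fun C hC hCc =>
            (hA₀.2.2 C hC hCc).trans (hA.2.2 A₀ (h A₀ hA₀) hA₀.2.1)⟩⟩)
    refine hproper _ hP ?_
    rw [hJ, normalizer_eq_top_iff]
    haveI : (thompsonSubgroupA ↥H).Characteristic :=
      characteristic_iff_map_eq.mpr fun e => Cfsg.Lib.Local.GlaubermanZJ.map_thompsonSubgroupA e
    exact Cfsg.Lib.Core.normal_map_char_of_normal _
  have hAP : A ≤ (P : Subgroup G) := hA.1
  haveI hAc : IsMulCommutative A := hA.2.1
  set Ab := A.map q with hAb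
  have hAbne : Ab ≠ ⊥ := fun h => hAH (by rw [hAb, Subgroup.map_eq_bot_iff, hker] at h; exact h)
  haveI : IsMulCommutative Ab := by rw [hAb]; infer_instance
  have hAQ0 : Ab ⊓ centralizer (R : Set (G ⧸ H)) = ⊥ := by
    set K := Pb ⊓ centralizer (R : Set (G ⧸ H)) with hK
    have htop : Pb ⊔ R = ⊤ := by
      have h := sylow_sup_pResidual (P.mapSurjective hqs)
      rwa [P.coe_mapSurjective hqs] at h
    have hKn : K.Normal := by
      rw [← normalizer_eq_top_iff, eq_top_iff, ← htop, sup_le_iff]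
      refine ⟨?_, (le_centralizer_iff.mp inf_le_right).trans (centralizer_le_normalizer _)⟩
      exact Cfsg.Lib.Coprime.le_normalizer_inf_centralizer le_normalizer (hRnorm Pb)
    have := (Cfsg.Lib.Core.le_pCore' hKn (hPbp.to_le inf_le_left)).trans_eq
      Cfsg.Lib.Core.pCore_quotient_pCore_eq_bot
    exact le_bot_iff.mp ((inf_le_inf_right _ (map_mono hAP)).trans this)
  have hAbp : IsPGroup p Ab := (P.2.to_le hAP).map q
  have hcopR : ∀ L : Subgroup (G ⧸ H), L ≤ R → (Nat.card Ab).Coprime (Nat.card L) := by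
    intro L hL
    obtain ⟨j, hj⟩ := IsPGroup.iff_card.mp hAbp
    rw [hj]
    exact ((hRcop.coprime_dvd_left (card_dvd_of_le hL)).pow_right j).symm
  have hsolA : Group.IsSolvable Ab := by
    have := hAbp.isNilpotent
    infer_instance
  obtain ⟨R1, ⟨⟨hR1, hR1N, hR1m⟩, hR1min⟩⟩ := exists_minimal_of_wellFoundedLT
    (fun K : Subgroup (G ⧸ H) => K ≤ R ∧ Ab ≤ normalizer (K : Set (G ⧸ H)) ∧ ⁅K, Ab⁆ ≠ ⊥)
    ⟨R, le_rfl, hRnorm _, fun h => hAbne (le_bot_iff.mp (hAQ0 ▸ le_inf le_rfl
      (le_centralizer_iff.mp (commutator_eq_bot_iff_le_centralizer.mp h))))⟩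
  have hR1eq : ⁅R1, Ab⁆ = R1 := by
    refine le_antisymm (Cfsg.Lib.Coprime.commutator_le_of_le_normalizer hR1N) (hR1min
      ⟨(Cfsg.Lib.Coprime.commutator_le_of_le_normalizer hR1N).trans hR1,
        normalizer_commutator_ge_right _ _, fun h => hR1m ?_⟩
      (Cfsg.Lib.Coprime.commutator_le_of_le_normalizer hR1N))
    exact Cfsg.Lib.Coprime.commutator_eq_bot_of_commutator_commutator_eq_bot hR1N (hcopR R1 hR1)
      (Or.inl hsolA) h
  haveI hR1c : IsMulCommutative R1 := ⟨⟨fun x y => Subtype.ext (congrArg Subtype.val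
    (mul_comm' (⟨x, hR1 x.2⟩ : R) ⟨y, hR1 y.2⟩) :)⟩⟩
  have hR1C : R1 ⊓ centralizer (Ab : Set (G ⧸ H)) = ⊥ := by
    have h := Cfsg.Lib.Coprime.disjoint_commutator_centralizer hR1N (hcopR R1 hR1)
    rw [hR1eq] at h
    exact disjoint_iff.mp h
  set A1 := Ab ⊓ centralizer (R1 : Set (G ⧸ H)) with hA1
  have hA1p : IsPGroup p A1 := hAbp.to_le inf_le_left
  have hR1A1 : ∀ x ∈ R1, ∀ y ∈ A1, x * y = y * x := fun x hx y hy => mem_centralizer_iff.mp hy.2 x hx
  have hcomm' : IsMulCommutative (R1 ⊔ A1 : Subgroup (G ⧸ H)) := abelian_sup hR1c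
    ⟨⟨fun x y => Subtype.ext (congrArg Subtype.val (mul_comm' (⟨x, x.2.1⟩ : Ab) ⟨y, y.2.1⟩) :)⟩⟩ hR1A1
  set K := (R1 ⊔ Ab).comap q with hK
  set T0 := (R1 ⊔ A1).comap q with hT0
  set H1 := A1.comap q with hH1
  have hH1K : H1 ≤ K := comap_mono (inf_le_left.trans le_sup_right)
  have hT0K : T0 ≤ K := comap_mono (sup_le_sup_left inf_le_left _)
  have hAK : A ≤ K := (le_comap_map q A).trans (comap_mono le_sup_right)
  have hHH1 : H ≤ H1 := hker.symm.trans_le (ker_le_comap q A1)
  have hA1N : R1 ⊔ Ab ≤ normalizer (A1 : Set (G ⧸ H)) := sup_le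
    ((fun x hx => centralizer_le_normalizer _ (mem_centralizer_iff.mpr fun y hy => (hR1A1 x hx y hy).symm)))
    (fun x hx => centralizer_le_normalizer _ (mem_centralizer_iff.mpr fun y hy =>
      congrArg Subtype.val (mul_comm' (⟨y, hy.1⟩ : Ab) ⟨x, hx⟩)))
  have hT0N : R1 ⊔ Ab ≤ normalizer ((R1 ⊔ A1 : Subgroup (G ⧸ H)) : Set (G ⧸ H)) := by
    intro g hg
    have hgR : g ∈ normalizer (R1 : Set (G ⧸ H)) := sup_le le_normalizer hR1N hg
    rw [mem_normalizer_iff_map_conj_eq]
    show (R1 ⊔ A1).map (MulAut.conj g).toMonoidHom = R1 ⊔ A1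
    rw [Subgroup.map_sup, Cfsg.Lib.Core.map_conj_eq_of_mem_normalizer hgR,
      Cfsg.Lib.Core.map_conj_eq_of_mem_normalizer (hA1N hg)]
  haveI hH1n : (H1.subgroupOf K).Normal := (normal_subgroupOf_iff_le_normalizer hH1K).mpr (by
    rw [hH1, ← comap_normalizer_eq_of_surjective _ hqs]
    exact comap_mono hA1N)
  haveI hT0n : (T0.subgroupOf K).Normal := (normal_subgroupOf_iff_le_normalizer hT0K).mpr (by
    rw [hT0, ← comap_normalizer_eq_of_surjective _ hqs]
    exact comap_mono hT0N)
  have hH1p : IsPGroup p H1 := hA1p.comap_of_ker_isPGroup q (hker.symm ▸ hHp)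
  have hd : Disjoint R1 A1 := by
    obtain ⟨j, hj⟩ := IsPGroup.iff_card.mp hA1p
    exact Cfsg.Lib.Coprime.disjoint_of_coprime_card
      (by rw [hj]; exact (hRcop.coprime_dvd_left (card_dvd_of_le hR1)).pow_right j)
  have hR1ne : R1 ≠ ⊥ := fun h => hR1m (by rw [h, commutator_bot_left])
  have hrel : H1.relIndex T0 = Nat.card R1 := by
    rw [hH1, relIndex_comap, map_comap_eq_self_of_surjective hqs]
    have h1 := Cfsg.Lib.Core.card_mul_relIndex (le_sup_right : A1 ≤ R1 ⊔ A1)
    rw [Cfsg.Lib.Coprime.card_sup_of_disjoint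
      (fun y hy => centralizer_le_normalizer _ (mem_centralizer_iff.mpr fun x hx => hR1A1 x hx y hy)) hd,
      mul_comm (Nat.card R1)] at h1
    exact Nat.eq_of_mul_eq_mul_left Nat.card_pos h1
  have hmaxG : ∀ C : Subgroup G, IsMulCommutative C → IsPGroup p C → Nat.card C ≤ Nat.card A := by
    intro C hC hCp
    obtain ⟨P₀, hP₀⟩ := hCp.exists_le_sylow
    obtain ⟨g, hg⟩ := MulAction.exists_smul_eq G P₀ P
    have he : (P₀ : Subgroup G).map (MulAut.conj g).toMonoidHom = (P : Subgroup G) := by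
      rw [← hg]; rfl
    rw [← card_map_of_injective (f := (MulAut.conj g).toMonoidHom) (MulAut.conj g).injective (K := C)]
    exact hA.2.2 _ (he ▸ map_mono hP₀) (Subgroup.map_isMulCommutative C _)
  have hmemT : ∀ x : K, x ∈ T0.subgroupOf K ↔ q x ∈ R1 ⊔ A1 := fun x => Iff.rfl
  have hmemH : ∀ x : K, x ∈ H1.subgroupOf K ↔ q x ∈ A1 := fun x => Iff.rfl
  have hmain := le_of_max_abelian (G := K) hp5 (H1.subgroupOf K) (T0.subgroupOf K) (A.subgroupOf K)
    (hH1p.of_equiv (subgroupOfEquivOfLe hH1K).symm)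
    (fun x hx => mem_subgroupOf.mpr (hHH1 (hCH (mem_centralizer_iff.mpr fun h hh =>
      congrArg Subtype.val (mem_centralizer_iff.mp hx ⟨h, hH1K (hHH1 hh)⟩ (mem_subgroupOf.mpr (hHH1 hh)))))))
    (fun x hx => (hmemT x).mpr (mem_sup_right ((hmemH x).mp hx)))
    (fun h => hR1ne (by
      refine le_bot_iff.mp fun r hr => ?_
      obtain ⟨x, rfl⟩ := hqs r
      have hx : x ∈ K := mem_comap.mpr (mem_sup_left hr)
      exact hd.le_bot ⟨hr, (hmemH ⟨x, hx⟩).mp (h.le ((hmemT ⟨x, hx⟩).mpr (mem_sup_left hr)))⟩))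
    (by rw [relIndex_subgroupOf hT0K, hrel]; exact hRcop.coprime_dvd_left (card_dvd_of_le hR1))
    (commutator_le.mpr fun x hx y hy => (hmemH _).mpr (by
      have h1 : q (⁅x, y⁆ : K) = 1 := by
        show q ((K.subtype) ⁅x, y⁆) = 1
        rw [map_commutatorElement, map_commutatorElement, commutatorElement_eq_one_iff_mul_comm]
        exact congrArg Subtype.val (hcomm'.is_comm.comm ⟨_, (hmemT x).mp hx⟩ ⟨_, (hmemT y).mp hy⟩)
      rw [h1]; exact one_mem _))
    ⟨⟨fun x y => Subtype.ext (Subtype.ext (congrArg Subtype.val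
      (mul_comm' (⟨_, mem_subgroupOf.mp x.2⟩ : A) ⟨_, mem_subgroupOf.mp y.2⟩) :))⟩⟩
    ((P.2.to_le hAP).of_equiv (subgroupOfEquivOfLe hAK).symm)
    (fun C hC hCp => by
      rw [Nat.card_congr (subgroupOfEquivOfLe hAK).toEquiv, ← card_map_of_injective K.subtype_injective]
      exact hmaxG _ (Subgroup.map_isMulCommutative C _) (hCp.map _))
    (fun a ha haH t ht hat => by
      rw [hmemH] at hat haH ⊢
      obtain ⟨r, hr, c, hc, hrc⟩ := Cfsg.Lib.Coprime.exists_mul_of_mem_sup
        (fun y hy => centralizer_le_normalizer _ (mem_centralizer_iff.mpr fun x hx => hR1A1 x hx y hy))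
        ((hmemT t).mp ht)
      have hqa : q (a : G) ∈ Ab := ⟨(a : G), mem_subgroupOf.mp ha, rfl⟩
      have hac : q (a : G) * c = c * q (a : G) :=
        congrArg Subtype.val (mul_comm' (⟨_, hqa⟩ : Ab) ⟨c, hc.1⟩)
      have e : q ((⁅a, t⁆ : K) : G) = ⁅q (a : G), r⁆ := by
        show q ((K.subtype) ⁅a, t⁆) = _
        rw [map_commutatorElement, map_commutatorElement]
        show ⁅q (a : G), q (t : G)⁆ = _
        rw [hrc]
        calc ⁅q (a : G), r * c⁆ = q (a : G) * r * (c * (q (a : G))⁻¹) * c⁻¹ * r⁻¹ := by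
              simp only [commutatorElement_def]; group
          _ = _ := by
            rw [((show Commute (q (a : G)) c from hac).inv_left).eq.symm, commutatorElement_def]; group
      rw [e] at hat
      have h1 : ⁅q (a : G), r⁆ = 1 := mem_bot.mp (hd.le_bot ⟨((commutator_comm Ab R1).trans_le
        (Cfsg.Lib.Coprime.commutator_le_of_le_normalizer hR1N)) (commutator_mem_commutator hqa hr), hat⟩)
      set L := R1 ⊓ centralizer ({q (a : G)} : Set (G ⧸ H)) with hL
      have hLN : Ab ≤ normalizer (L : Set (G ⧸ H)) := by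
        refine (le_inf hR1N ?_).trans inf_normalizer_le_normalizer_inf
        refine le_trans (fun x hx => ?_) le_normalizer
        exact mem_centralizer_singleton_iff.mpr
          (congrArg Subtype.val (mul_comm' (⟨x, hx⟩ : Ab) ⟨_, hqa⟩))
      have hL0 : L = ⊥ := by
        by_contra hne
        have h2 : R1 ≤ L := hR1min ⟨inf_le_left.trans hR1, hLN, fun h => hne (le_bot_iff.mp (hR1C ▸
          le_inf inf_le_left (commutator_eq_bot_iff_le_centralizer.mp h)))⟩ inf_le_left
        exact haH ⟨hqa, mem_centralizer_iff.mpr fun x hx =>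
          mem_centralizer_singleton_iff.mp (h2 hx).2⟩
      have hr1 : r = 1 := mem_bot.mp (hL0.le ⟨hr, mem_centralizer_singleton_iff.mpr
        (commutatorElement_eq_one_iff_mul_comm.mp h1).symm⟩)
      show q (t : G) ∈ A1
      rw [hrc, hr1, one_mul]; exact hc)
  refine hR1m (commutator_eq_bot_iff_le_centralizer.mpr (le_centralizer_iff.mp ?_))
  rintro _ ⟨x, hx, rfl⟩
  exact ((hmemH ⟨x, hAK hx⟩).mp (hmain (mem_subgroupOf.mpr hx))).2

/-- The normal `p`-complement theorem for the normalizer of `J`, `p ≥ 5`. -/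
theorem normal_p_complement {G : Type w} [Group G] [Finite G] (hp5 : 5 ≤ p) (P : Sylow p G)
    (h : LocalJ p (P : Subgroup G)) : HasNormalPComplement p G := by
  suffices H : ∀ n (G : Type w) [Group G] [Finite G], Nat.card G ≤ n → ∀ P : Sylow p G,
      LocalJ p (P : Subgroup G) → HasNormalPComplement p G from H _ G le_rfl P h
  intro n
  induction n with
  | zero =>
    intro G _ _ hn
    exact absurd Nat.card_pos (not_lt.mpr hn)
  | succ n ih =>
    intro G _ _ hn P hP
    by_contra hG
    exact no_minimal_counterexample hp5 (fun H _ _ hlt Q hQ => ih H (by omega) Q hQ) P hP hG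

end Cfsg.Lib.Local.JNormal
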