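import Mathlib

/-!
# Modules for an automorphism of prime order normalizing an abelian `p'`-group without fixed points

`fixed_mem_range`: the fixed points are norms. `isotropic_single`, `isotropic_pair`: an equivariant
alternating pairing into a quadratic module vanishes high in the commutator series.
-/

set_option autoImplicit false

namespace Cfsg.Lib.Local.JNormal

open Finset

/-- An equivariant sum over a fixed-point-free set for an element of prime order is a norm. -/
theorem orbit_sum_mem {ι V : Type*} [DecidableEq ι] [AddCommGroup V] {p : ℕ} (hp : p.Prime)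
    (α : ι ≃ ι) (σ : AddMonoid.End V) (f : ι → V) (hα : ∀ r, α^[p] r = r)
    (hf : ∀ r, f (α r) = σ (f r)) :
    ∀ s : Finset ι, (∀ r, r ∈ s → α r ∈ s) → (∀ r ∈ s, α r ≠ r) →
      ∑ r ∈ s, f r ∈ AddMonoidHom.range (∑ i ∈ range p, σ ^ i : AddMonoid.End V) := by
  intro s
  induction s using Finset.strongInduction with
  | H s ih =>
    intro hs hne
    rcases s.eq_empty_or_nonempty with rfl | ⟨r, hr⟩
    · simp
    set O := (range p).image fun i => α^[i] r with hO
    have hin : ∀ i, α^[i] r ∈ s := by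
      intro i; induction i with
      | zero => simpa using hr
      | succ i ihi => rw [Function.iterate_succ_apply']; exact hs _ ihi
    have hmp : Function.minimalPeriod α r = p :=
      (hp.eq_one_or_self_of_dvd _ (Function.IsPeriodicPt.minimalPeriod_dvd (hα r))).resolve_left
        fun h => hne r hr (by have := Function.minimalPeriod_eq_one_iff_isFixedPt.1 h; exact this)
    have hinj : Set.InjOn (fun i => α^[i] r) (range p : Finset ℕ) := by
      intro i hi j hj h
      have hi' : i < Function.minimalPeriod α r := by rw [hmp]; simpa using hi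
      have hj' : j < Function.minimalPeriod α r := by rw [hmp]; simpa using hj
      exact Function.iterate_injOn_Iio_minimalPeriod hi' hj' h
    have hfi : ∀ i, f (α^[i] r) = (σ ^ i) (f r) := by
      intro i; induction i with
      | zero => simp
      | succ i ihi => rw [Function.iterate_succ_apply', hf, ihi, pow_succ']; rfl
    have hsub : O ⊆ s := fun x hx => by
      obtain ⟨i, -, rfl⟩ := Finset.mem_image.1 hx; exact hin i
    have hrO : r ∈ O := Finset.mem_image.2 ⟨0, by simp [hp.pos], rfl⟩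
    have h1 := ih (s \ O) (Finset.sdiff_ssubset hsub ⟨r, hrO⟩) (fun x hx => by
      rw [Finset.mem_sdiff] at hx ⊢
      refine ⟨hs x hx.1, fun hax => hx.2 ?_⟩
      obtain ⟨i, -, hi⟩ := Finset.mem_image.1 hax
      have hx' : x = α^[(p - 1) + i] r := by
        rw [Function.iterate_add_apply, hi, ← Function.iterate_succ_apply,
          show (p - 1).succ = p by have := hp.one_le; omega, hα]
      refine Finset.mem_image.2 ⟨((p - 1) + i) % p, Finset.mem_range.2 (Nat.mod_lt _ hp.pos), ?_⟩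
      rw [hx']
      exact (Function.IsPeriodicPt.iterate_mod_apply (hα r) _))
      fun x hx => hne x (Finset.mem_sdiff.1 hx).1
    rw [← Finset.sum_sdiff hsub]
    refine add_mem h1 ⟨f r, ?_⟩
    rw [hO, Finset.sum_image hinj, Finset.sum_congr rfl fun i _ => hfi i]
    exact AddMonoidHom.finsetSum_apply (fun i => σ ^ i) (range p) (f r)

/-- Fixed points are norms. -/
theorem fixed_mem_range {R V : Type*} [CommGroup R] [Finite R] [AddCommGroup V] {p : ℕ} (hp : p.Prime)
    (hV : ∀ v : V, p • v = 0) (hR : (Nat.card R).Coprime p) (ρ : R →* AddMonoid.End V)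
    (hfix : ∀ v, (∀ r, ρ r v = v) → v = 0) (α : R ≃* R) (hα : ∀ r, (⇑α)^[p] r = r)
    (hfpf : ∀ r, α r = r → r = 1) (σ : AddMonoid.End V) (hσ : σ ^ p = 1)
    (hcomm : ∀ r, σ * ρ r = ρ (α r) * σ) {v : V} (hv : σ v = v) :
    v ∈ AddMonoidHom.range (∑ i ∈ range p, σ ^ i : AddMonoid.End V) := by
  classical
  letI := Fintype.ofFinite R
  set N : AddMonoid.End V := ∑ i ∈ range p, σ ^ i with hN
  have hpow : ∀ i r, σ ^ i * ρ r = ρ ((⇑α)^[i] r) * σ ^ i := by
    intro i; induction i with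
    | zero => intro r; simp
    | succ i ih =>
      intro r
      rw [pow_succ', mul_assoc, ih, ← mul_assoc, hcomm, mul_assoc, Function.iterate_succ_apply']
  have hvi : ∀ i, (σ ^ i) v = v := by
    intro i; induction i with
    | zero => simp
    | succ i ih => rw [pow_succ']; show σ ((σ ^ i) v) = v; rw [ih, hv]
  let f : R → V := fun r => ρ r (N (ρ r⁻¹ v))
  have hNσ : σ * N = N * σ := by
    rw [hN, Finset.mul_sum, Finset.sum_mul]
    exact Finset.sum_congr rfl fun i _ => by rw [← pow_succ', ← pow_succ]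
  have hf : ∀ r, f (α r) = σ (f r) := by
    intro r
    show ρ (α r) (N (ρ (α r)⁻¹ v)) = (σ * ρ r) (N (ρ r⁻¹ v))
    rw [hcomm]
    show ρ (α r) (N (ρ (α r)⁻¹ v)) = ρ (α r) ((σ * N) (ρ r⁻¹ v))
    rw [hNσ]
    show _ = ρ (α r) (N ((σ * ρ r⁻¹) v))
    rw [hcomm, show α r⁻¹ = (α r)⁻¹ from map_inv α r]
    show _ = ρ (α r) (N (ρ (α r)⁻¹ (σ v)))
    rw [hv]
  have hsum0 : ∀ w, ∑ r, ρ r w = 0 := fun w => hfix _ fun s => by
    rw [map_sum]
    refine Fintype.sum_equiv (Equiv.mulLeft s) _ _ fun r => ?_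
    show (ρ s * ρ r) w = _
    rw [← map_mul]; rfl
  have hexp : ∀ r i, ρ r ((σ ^ i) (ρ r⁻¹ v)) = ρ (r * ((⇑α)^[i] r⁻¹)) v := fun r i => by
    show ρ r ((σ ^ i * ρ r⁻¹) v) = _
    rw [hpow, map_mul]
    show ρ r (ρ _ ((σ ^ i) v)) = _
    rw [hvi]; rfl
  have hiterhom : ∀ i x y, (⇑α)^[i] (x * y) = (⇑α)^[i] x * (⇑α)^[i] y := by
    intro i; induction i with
    | zero => simp
    | succ i ih => intro x y; simp only [Function.iterate_succ_apply', ih, map_mul]
  have hzero : ∀ i ∈ range p, i ≠ 0 → ∑ r, ρ (r * ((⇑α)^[i] r⁻¹)) v = 0 := by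
    intro i hi hi0
    have hbij : Function.Bijective fun r : R => r * ((⇑α)^[i] r⁻¹) := by
      refine Finite.injective_iff_bijective.1 fun r s h => ?_
      have h2 : (⇑α)^[i] (r * s⁻¹) = r * s⁻¹ := by
        have hinv : ∀ x, (⇑α)^[i] x⁻¹ = ((⇑α)^[i] x)⁻¹ := fun x => by
          refine eq_inv_of_mul_eq_one_left ?_
          rw [← hiterhom, inv_mul_cancel]
          have := hiterhom i 1 1
          rw [one_mul, left_eq_mul] at this; exact this
        simp only [hinv] at h
        rw [hiterhom, hinv]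
        calc (⇑α)^[i] r * ((⇑α)^[i] s)⁻¹
            = (s * ((⇑α)^[i] s)⁻¹) * (s⁻¹ * (⇑α)^[i] r) := by
              rw [mul_comm ((⇑α)^[i] r), mul_comm s ((⇑α)^[i] s)⁻¹, mul_assoc, mul_inv_cancel_left]
          _ = (r * ((⇑α)^[i] r)⁻¹) * (s⁻¹ * (⇑α)^[i] r) := by rw [h]
          _ = r * s⁻¹ := by rw [mul_comm s⁻¹, mul_assoc, inv_mul_cancel_left]
      have hper : Function.IsPeriodicPt α i (r * s⁻¹) := h2
      have h3 : Function.IsPeriodicPt α 1 (r * s⁻¹) := by
        have := hper.gcd (hα (r * s⁻¹) : Function.IsPeriodicPt α p (r * s⁻¹))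
        rwa [Nat.Coprime.gcd_eq_one ((hp.coprime_iff_not_dvd.2 fun hd =>
          hi0 (Nat.eq_zero_of_dvd_of_lt hd (Finset.mem_range.1 hi))).symm)] at this
      exact mul_inv_eq_one.1 (hfpf _ h3)
    exact (Fintype.sum_bijective _ hbij (fun r => ρ (r * ((⇑α)^[i] r⁻¹)) v) (fun r => ρ r v)
      fun r => rfl).trans (hsum0 v)
  have htotal : ∑ r, f r = (Nat.card R) • v := by
    have e : ∀ r, f r = ∑ i ∈ range p, ρ (r * ((⇑α)^[i] r⁻¹)) v := fun r => by
      show ρ r (N (ρ r⁻¹ v)) = _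
      rw [hN, show (∑ i ∈ range p, σ ^ i : AddMonoid.End V) (ρ r⁻¹ v) =
        ∑ i ∈ range p, (σ ^ i) (ρ r⁻¹ v) from AddMonoidHom.finsetSum_apply (fun i => σ ^ i) (range p) (ρ r⁻¹ v), map_sum]
      exact Finset.sum_congr rfl fun i _ => hexp r i
    rw [Finset.sum_congr rfl fun r _ => e r, Finset.sum_comm,
      Finset.sum_eq_single_of_mem 0 (Finset.mem_range.2 hp.pos) hzero]
    simp [Nat.card_eq_fintype_card]
  have hone : f 1 = 0 := by
    show ρ 1 (N (ρ 1⁻¹ v)) = 0
    rw [inv_one, map_one]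
    show N v = 0
    rw [hN, show (∑ i ∈ range p, σ ^ i : AddMonoid.End V) v = ∑ i ∈ range p, (σ ^ i) v from
      AddMonoidHom.finsetSum_apply (fun i => σ ^ i) (range p) v, Finset.sum_congr rfl fun i _ => hvi i]
    simpa using hV v
  have hmem := orbit_sum_mem hp α.toEquiv σ f hα hf (Finset.univ.erase 1)
    (fun r hr => Finset.mem_erase.2 ⟨fun h => (Finset.mem_erase.1 hr).1
      (α.injective (h.trans (map_one α).symm)), Finset.mem_univ _⟩)
    (fun r hr h => (Finset.mem_erase.1 hr).1 (hfpf r h))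
  rw [← zero_add (∑ r ∈ Finset.univ.erase 1, f r), ← hone, Finset.add_sum_erase _ _ (Finset.mem_univ _),
    htotal] at hmem
  have hbez := Nat.gcd_eq_gcd_ab (Nat.card R) p
  rw [hR.gcd_eq_one] at hbez
  have h1 : v = (Nat.gcdA (Nat.card R) p) • ((Nat.card R) • v) := by
    calc v = ((1 : ℕ) : ℤ) • v := by simp
      _ = _ := by
        rw [hbez, add_smul, mul_comm ((Nat.card R : ℤ)), mul_smul, natCast_zsmul, mul_comm (p : ℤ),
          mul_smul, natCast_zsmul, hV, smul_zero, add_zero]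
  rw [h1]
  exact AddSubgroup.zsmul_mem _ hmem _

/-- In characteristic `p` the norm is the `p - 1`st power of the commutator. -/
theorem geom_eq_sub_one_pow {p : ℕ} [Fact p.Prime] {S : Type*} [Ring S] (h : (p : S) = 0) (x : S) :
    ∑ i ∈ range p, x ^ i = (x - 1) ^ (p - 1) := by
  have key : (∑ i ∈ range p, (Polynomial.X : Polynomial (ZMod p)) ^ i) =
      (Polynomial.X - 1) ^ (p - 1) := by
    refine mul_right_cancel₀ (b := (Polynomial.X : Polynomial (ZMod p)) - 1) ?_ ?_
    · simpa using Polynomial.X_sub_C_ne_zero (1 : ZMod p)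
    · rw [geom_sum_mul, ← pow_succ, Nat.sub_add_cancel (Fact.out : p.Prime).one_le, sub_pow_char,
        one_pow]
  rcases subsingleton_or_nontrivial S with hS | hS
  · exact Subsingleton.elim _ _
  haveI : CharP S p := (CharP.charP_iff_prime_eq_zero (Fact.out : p.Prime)).2 h
  letI := ZMod.algebra S p
  simpa [map_sum] using congrArg (Polynomial.aeval x) key

theorem sub_one_pow_prime {p : ℕ} [Fact p.Prime] {S : Type*} [Ring S] (h : (p : S) = 0) (x : S)
    (hx : x ^ p = 1) : (x - 1) ^ p = 0 := by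
  rw [show p = (p - 1) + 1 by have := (Fact.out : p.Prime).one_le; omega, pow_succ,
    ← geom_eq_sub_one_pow h, geom_sum_mul, hx, sub_self]

/-- The order of a module is at most a power of the order of the fixed points. -/
theorem card_ker_pow_le {V : Type*} [AddCommGroup V] [Finite V] (δ : AddMonoid.End V) (n : ℕ) :
    Nat.card (AddMonoidHom.ker (δ ^ n : AddMonoid.End V)) ≤
      Nat.card (AddMonoidHom.ker (δ : V →+ V)) ^ n := by
  induction n with
  | zero =>
    have : (AddMonoidHom.ker (δ ^ 0 : AddMonoid.End V)) = ⊥ := by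
      ext x; rw [pow_zero]; exact Iff.rfl
    rw [this]; simp
  | succ n ih =>
    let f : AddMonoidHom.ker (δ ^ (n + 1) : AddMonoid.End V) →+ V :=
      (δ : V →+ V).comp (AddSubgroup.subtype _)
    have hle : f.range ≤ AddMonoidHom.ker (δ ^ n : AddMonoid.End V) := by
      rintro _ ⟨⟨x, hx⟩, rfl⟩
      have hx' : (δ ^ (n + 1) : AddMonoid.End V) x = 0 := hx
      rw [pow_succ] at hx'
      exact hx'
    have hk : Nat.card f.ker ≤ Nat.card (AddMonoidHom.ker (δ : V →+ V)) :=
      Nat.card_le_card_of_injective (fun x => ⟨(x.1 : V), x.2⟩) fun x y h =>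
        Subtype.ext (Subtype.ext (congrArg Subtype.val h :))
    have h1 := f.ker.card_mul_index
    rw [AddSubgroup.index_ker] at h1
    rw [pow_succ' (Nat.card _) n]
    refine h1.symm.le.trans ?_
    exact Nat.mul_le_mul hk ((AddSubgroup.card_le_of_le hle).trans ih)

/-- A long commutator chain makes a large module. -/
theorem pow_succ_le_card {V : Type*} [AddCommGroup V] [Finite V] {p : ℕ} (hp : p.Prime)
    (hV : ∀ v : V, p • v = 0) :
    ∀ (m : ℕ) (δ : AddMonoid.End V) (M : ℕ), δ ^ M = 0 → δ ^ m ≠ 0 → p ^ (m + 1) ≤ Nat.card V := by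
  intro m δ M hM hm
  have key : ∀ i ≤ m, p ^ (m + 1 - i) ≤ Nat.card (AddMonoidHom.range (δ ^ i : AddMonoid.End V)) := by
    intro i hi
    induction hd : m - i generalizing i with
    | zero =>
      have him : i = m := by omega
      subst him
      rw [show i + 1 - i = 1 by omega, pow_one]
      obtain ⟨x, hx⟩ : ∃ x, (δ ^ i : AddMonoid.End V) x ≠ 0 := by
        by_contra h; push Not at h; exact hm (AddMonoidHom.ext h)
      have : addOrderOf (⟨_, x, rfl⟩ : AddMonoidHom.range (δ ^ i : AddMonoid.End V)) = p := by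
        have : Fact p.Prime := ⟨hp⟩
        refine addOrderOf_eq_prime (Subtype.ext (hV _)) fun h => hx (congrArg Subtype.val h)
      exact this ▸ Nat.le_of_dvd Nat.card_pos (addOrderOf_dvd_natCard _)
    | succ k ih =>
      have h1 := ih (i + 1) (by omega) (by omega)
      have hlt : AddMonoidHom.range (δ ^ (i + 1) : AddMonoid.End V) <
          AddMonoidHom.range (δ ^ i : AddMonoid.End V) := by
        refine lt_of_le_of_ne ?_ fun he => hm ?_
        · rintro _ ⟨x, rfl⟩
          exact ⟨δ x, by rw [pow_succ]; rfl⟩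
        · have hst : ∀ n, ∀ x, ∃ y, (δ ^ (i + n) : AddMonoid.End V) y = (δ ^ i : AddMonoid.End V) x := by
            intro n; induction n with
            | zero => exact fun x => ⟨x, rfl⟩
            | succ n ihn =>
              intro x
              obtain ⟨y, hy⟩ := ihn x
              obtain ⟨z, hz⟩ : (δ ^ i : AddMonoid.End V) y ∈
                  AddMonoidHom.range (δ ^ (i + 1) : AddMonoid.End V) := he ▸ ⟨y, rfl⟩
              refine ⟨z, ?_⟩
              rw [← hy, show i + (n + 1) = n + (i + 1) by omega, pow_add _ n (i + 1),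
                show i + n = n + i by omega, pow_add _ n i]
              show (δ ^ n : AddMonoid.End V) _ = (δ ^ n : AddMonoid.End V) _
              exact congrArg _ hz
          refine AddMonoidHom.ext fun x => ?_
          obtain ⟨y, hy⟩ := hst M x
          rw [pow_add] at hy
          rw [show m = (m - i) + i by omega, pow_add]
          show (δ ^ (m - i) : AddMonoid.End V) ((δ ^ i : AddMonoid.End V) x) = 0
          rw [← hy]
          show (δ ^ (m - i) : AddMonoid.End V) ((δ ^ i * δ ^ M : AddMonoid.End V) y) = 0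
          rw [hM, mul_zero]; simp
      have hdvd : p ∣ AddSubgroup.relIndex (AddMonoidHom.range (δ ^ (i + 1) : AddMonoid.End V))
          (AddMonoidHom.range (δ ^ i : AddMonoid.End V)) := by
        obtain ⟨x, hx, hxn⟩ := SetLike.exists_of_lt hlt
        haveI : Fact p.Prime := ⟨hp⟩
        have h3 : addOrderOf (QuotientAddGroup.mk (⟨x, hx⟩ : AddMonoidHom.range (δ ^ i : AddMonoid.End V)) :
            _ ⧸ (AddMonoidHom.range (δ ^ (i + 1) : AddMonoid.End V)).addSubgroupOf _) = p := by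
          refine addOrderOf_eq_prime ?_ fun h => hxn ?_
          · rw [← QuotientAddGroup.mk_nsmul, show p • (⟨x, hx⟩ : AddMonoidHom.range _) = 0 from
              Subtype.ext (hV _)]; rfl
          · exact AddSubgroup.mem_addSubgroupOf.1 ((QuotientAddGroup.eq_zero_iff _).1 h)
        exact h3 ▸ addOrderOf_dvd_natCard _
      have h4 := AddSubgroup.relIndex_mul_relIndex ⊥ _ _ bot_le hlt.le
      rw [AddSubgroup.relIndex_bot_left, AddSubgroup.relIndex_bot_left] at h4
      rw [← h4, show m + 1 - i = (m + 1 - (i + 1)) + 1 by omega, pow_succ]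
      refine Nat.mul_le_mul h1 (Nat.le_of_dvd (Nat.pos_of_ne_zero fun h => ?_) hdvd)
      rw [h, mul_zero] at h4
      exact Nat.card_pos.ne' h4.symm
  refine (key 0 (Nat.zero_le _)).trans ?_
  exact Nat.card_le_card_of_injective _ Subtype.val_injective

section Pairing

variable {B M : Type*} [Group B] [AddCommGroup M] (σ : AddMonoid.End M) (β : B → B → M)
  (hl : ∀ x y z, β (x * y) z = β x z + β y z) (hr : ∀ x y z, β x (y * z) = β x y + β x z)
  (τ : MulAut B) (heq : ∀ x y, β (τ x) (τ y) = σ (β x y)) (hσ : ∀ m, σ (σ m - m) = σ m - m)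

/-- The commutator map of an automorphism. -/
def del (x : B) : B := τ x * x⁻¹

include hl hr heq hσ in
theorem pairing_identity (x y : B) :
    β (del τ (del τ x)) y + β x (del τ (del τ y)) + 2 • β (del τ x) (del τ y) +
      2 • β (del τ (del τ x)) (del τ y) + 2 • β (del τ x) (del τ (del τ y)) +
      β (del τ (del τ x)) (del τ (del τ y)) = 0 := by
  have hstep : ∀ u v, σ (β u v) - β u v = β (del τ u) (del τ v) + β (del τ u) v + β u (del τ v) := by
    intro u v
    rw [← heq, show τ u = del τ u * u by simp [del], show τ v = del τ v * v by simp [del], hl, hr, hr]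
    abel
  have h := sub_eq_zero.2 (hσ (β x y))
  rw [hstep, map_add, map_add, show ∀ a b c : M, σ a + σ b + σ c - (a + b + c) =
    (σ a - a) + (σ b - b) + (σ c - c) from fun a b c => by abel, hstep, hstep, hstep] at h
  rw [← h]
  abel

variable (hz : ∀ x y, β x x = 0 ∧ β x y = - β y x) (hodd : ∀ m : M, 2 • m = 0 → m = 0)
  (h3 : ∀ m : M, 3 • m = 0 → m = 0)

include hl hr heq hσ hz hodd h3 in
theorem isotropic_pair {s t : ℕ → B} (hs : ∀ i, s (i + 1) = del τ (s i))
    (ht : ∀ i, t (i + 1) = del τ (t i)) (hs5 : ∀ i, 5 ≤ i → ∀ y, β (s i) y = 0)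
    (ht5 : ∀ i, 5 ≤ i → ∀ y, β (t i) y = 0) {i j : ℕ} (hi : 3 ≤ i) (hj : 3 ≤ j) :
    β (s i) (t j) = 0 := by
  have ht5' : ∀ i, 5 ≤ i → ∀ y, β y (t i) = 0 := fun i h y => by
    rw [(hz y (t i)).2, ht5 i h, neg_zero]
  have E : ∀ i j, β (s (i + 2)) (t j) + β (s i) (t (j + 2)) + 2 • β (s (i + 1)) (t (j + 1)) +
      2 • β (s (i + 2)) (t (j + 1)) + 2 • β (s (i + 1)) (t (j + 2)) +
      β (s (i + 2)) (t (j + 2)) = 0 := fun i j => by
    have h := pairing_identity σ β hl hr τ heq hσ (s i) (t j)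
    rwa [← hs, ← hs, ← ht, ← ht] at h
  have e44 : β (s 4) (t 4) = 0 := hodd _ (by
    simpa [hs5 5 le_rfl, ht5' 5 le_rfl] using E 3 3)
  have a1 : β (s 3) (t 4) + 2 • β (s 4) (t 3) = 0 := by
    simpa [hs5 5 le_rfl, ht5' 5 le_rfl, e44] using E 3 2
  have a2 : β (s 4) (t 3) + 2 • β (s 3) (t 4) = 0 := by
    simpa [hs5 5 le_rfl, ht5' 5 le_rfl, e44] using E 2 3
  have e43 : β (s 4) (t 3) = 0 := h3 _ (by
    calc 3 • β (s 4) (t 3) = 2 • (β (s 3) (t 4) + 2 • β (s 4) (t 3)) -
        (β (s 4) (t 3) + 2 • β (s 3) (t 4)) := by abel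
      _ = 0 := by rw [a1, a2]; simp)
  have e34 : β (s 3) (t 4) = 0 := by simpa [e43] using a1
  have b1 : β (s 3) (t 3) + 2 • β (s 4) (t 2) = 0 := by
    simpa [hs5 5 le_rfl, ht5' 5 le_rfl, e43] using E 3 1
  have b2 : β (s 3) (t 3) + 2 • β (s 2) (t 4) = 0 := by
    simpa [hs5 5 le_rfl, ht5' 5 le_rfl, e34] using E 1 3
  have b3 : β (s 4) (t 2) + β (s 2) (t 4) + 2 • β (s 3) (t 3) = 0 := by
    simpa [e44, e43, e34] using E 2 2
  have e33 : β (s 3) (t 3) = 0 := hodd _ (by
    calc 2 • β (s 3) (t 3) = 2 • (β (s 4) (t 2) + β (s 2) (t 4) + 2 • β (s 3) (t 3)) -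
        (β (s 3) (t 3) + 2 • β (s 4) (t 2)) - (β (s 3) (t 3) + 2 • β (s 2) (t 4)) := by abel
      _ = 0 := by rw [b1, b2, b3]; simp)
  rcases (show i = 3 ∨ i = 4 ∨ 5 ≤ i by omega) with rfl | rfl | h
  · rcases (show j = 3 ∨ j = 4 ∨ 5 ≤ j by omega) with rfl | rfl | h'
    exacts [e33, e34, ht5' j h' _]
  · rcases (show j = 3 ∨ j = 4 ∨ 5 ≤ j by omega) with rfl | rfl | h'
    exacts [e43, e44, ht5' j h' _]
  · exact hs5 i h _

include hl hr heq hσ hz hodd h3 in
theorem isotropic_single {s : ℕ → B} (hs : ∀ i, s (i + 1) = del τ (s i))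
    (hs5 : ∀ i, 5 ≤ i → ∀ y, β (s i) y = 0) : β (s 2) (s 3) = 0 := by
  have hgen : ∀ i j, 3 ≤ i → 3 ≤ j → β (s i) (s j) = 0 := fun i j hi hj =>
    isotropic_pair σ β hl hr τ heq hσ hz hodd h3 hs hs hs5 hs5 hi hj
  have hs5' : ∀ i, 5 ≤ i → ∀ y, β y (s i) = 0 := fun i h y => by
    rw [(hz y (s i)).2, hs5 i h, neg_zero]
  have E : ∀ i j, β (s (i + 2)) (s j) + β (s i) (s (j + 2)) + 2 • β (s (i + 1)) (s (j + 1)) +
      2 • β (s (i + 2)) (s (j + 1)) + 2 • β (s (i + 1)) (s (j + 2)) +
      β (s (i + 2)) (s (j + 2)) = 0 := fun i j => by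
    have h := pairing_identity σ β hl hr τ heq hσ (s i) (s j)
    rwa [← hs, ← hs, ← hs, ← hs] at h
  have e42 : β (s 4) (s 2) = 0 := hodd _ (by
    simpa [hs5 5 le_rfl, hs5' 5 le_rfl, hgen 3 3 le_rfl le_rfl, hgen 4 3 (by omega) le_rfl] using E 3 1)
  have c1 : β (s 3) (s 2) + 2 • β (s 4) (s 1) = 0 := by
    simpa [hs5 5 le_rfl, hs5' 5 le_rfl, e42] using E 3 0
  have c2 : β (s 4) (s 1) + β (s 3) (s 2) = 0 := by
    have h := E 2 1
    simp only [Nat.reduceAdd, e42, hgen 3 3 le_rfl le_rfl, hgen 4 3 (by omega) le_rfl, smul_zero,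
      add_zero, (hz (s 2) (s 3)).2] at h
    rw [← h]; abel
  have e32 : β (s 3) (s 2) = 0 := by
    calc β (s 3) (s 2) = 2 • (β (s 4) (s 1) + β (s 3) (s 2)) - (β (s 3) (s 2) + 2 • β (s 4) (s 1)) := by abel
      _ = 0 := by rw [c1, c2]; simp
  rw [(hz (s 2) (s 3)).2, e32, neg_zero]

end Pairing

end Cfsg.Lib.Local.JNormal
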